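import Cfsg.Agent.H35.PoinNum
import Cfsg.Agent.H620.RowSz
import Cfsg.Agent.Lib.Zsigmondy

/-!
# Killed primes from an index of the form `∏ (q ^ d - 1) / ∏ (q ^ d' - 1)` (helper515)
-/

set_option autoImplicit false

namespace Cfsg.Agent.H515.KillExc

open Cfsg Cfsg.Agent.H620 Cfsg.Agent.H620.RowSz Cfsg.Agent.H35.PoinNum

theorem not_dvd_pr_of {q e l : ℕ} (hl : l.Prime) (hprim : ∀ m, l ∣ q ^ m - 1 ↔ e ∣ m) :
    ∀ dJ : List ℕ, (∀ x ∈ dJ, ¬ e ∣ x) → ¬ l ∣ pr q dJ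
  | [], _ => by rw [pr_nil, Nat.dvd_one]; exact hl.one_lt.ne'
  | d :: dJ, h => by
    rw [pr_cons, hl.dvd_mul, not_or, hprim]
    exact ⟨h d List.mem_cons_self, not_dvd_pr_of hl hprim dJ fun x hx => h x (List.mem_cons_of_mem _ hx)⟩

theorem dvd_pr_of {q e l : ℕ} (hprim : ∀ m, l ∣ q ^ m - 1 ↔ e ∣ m) :
    ∀ dS : List ℕ, e ∈ dS → l ∣ pr q dS
  | [], h => absurd h List.not_mem_nil
  | d :: dS, h => by
    rw [pr_cons]
    rcases List.mem_cons.1 h with rfl | h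
    · exact Dvd.dvd.mul_right ((hprim _).2 dvd_rfl) _
    · exact Dvd.dvd.mul_left (dvd_pr_of hprim dS h) _

/-- **One killed prime.** -/
theorem kill_num {G : Type*} [Group G] [Finite G] {r q d b idx N e l : ℕ} {dS dJ dD : List ℕ} {χ : G → ℂ}
    (hr : r.Prime) (hχ : IsIrrCharacter G χ) (h1 : χ 1 = N) (hidx : idx ∣ N) (hI : idx * pr q dJ = pr q dS)
    (hcard : d * Nat.card G * pr q dD = r ^ b * pr q dS) (hl : l.Prime) (hlr : l ≠ r)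
    (hprim : ∀ m, l ∣ q ^ m - 1 ↔ e ∣ m) (hJ : ∀ x ∈ dJ, ¬ e ∣ x) : Kill G l := by
  have : Fact l.Prime := ⟨hl⟩
  refine kill_of_dvd l hχ N h1 (Dvd.dvd.trans ?_ hidx)
  have h2 : l ^ (Nat.card G).factorization l ∣ r ^ b * (idx * pr q dJ) := by
    rw [hI, ← hcard]
    exact Dvd.dvd.mul_right (Dvd.dvd.mul_left (Nat.ordProj_dvd _ _) _) _
  have h3 : Nat.Coprime (l ^ (Nat.card G).factorization l) (r ^ b) :=
    Nat.Coprime.pow _ _ ((Nat.coprime_primes hl hr).2 hlr)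
  have h4 : Nat.Coprime (l ^ (Nat.card G).factorization l) (pr q dJ) :=
    Nat.Coprime.pow_left _ ((Nat.Prime.coprime_iff_not_dvd hl).2 (not_dvd_pr_of hl hprim dJ hJ))
  exact h4.dvd_of_dvd_mul_right (h3.dvd_of_dvd_mul_left h2)

theorem dvd_card_num {G : Type*} [Group G] {r q d b e l : ℕ} {dS dD : List ℕ}
    (hcard : d * Nat.card G * pr q dD = r ^ b * pr q dS) (hl : l.Prime)
    (hprim : ∀ m, l ∣ q ^ m - 1 ↔ e ∣ m) (hS : e ∈ dS) (hD : ∀ x ∈ dD, ¬ e ∣ x) (hd : ¬ l ∣ d) :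
    l ∣ Nat.card G := by
  have h1 : l ∣ d * Nat.card G * pr q dD := by
    rw [hcard]
    exact Dvd.dvd.mul_left (dvd_pr_of hprim dS hS) _
  rcases hl.dvd_mul.1 h1 with h2 | h2
  · exact (hl.dvd_mul.1 h2).resolve_left hd
  · exact absurd h2 (not_dvd_pr_of hl hprim dD hD)

/-- **Two killed primes.** -/
theorem kill3_num {G : Type*} [Group G] [Finite G] {r q d b idx N e₁ e₂ : ℕ} {dS dJ dD : List ℕ} {χ : G → ℂ}
    (hr : r.Prime) (hq : 2 ≤ q) (hrq : r ∣ q) (hχ : IsIrrCharacter G χ) (h1 : χ 1 = N) (hidx : idx ∣ N)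
    (hI : idx * pr q dJ = pr q dS) (hcard : d * Nat.card G * pr q dD = r ^ b * pr q dS) (hd : d ∣ q ^ 2 - 1)
    (h12 : e₁ ≠ e₂) (he : 6 < e₁ ∧ 6 < e₂) (hS : e₁ ∈ dS ∧ e₂ ∈ dS) (hJ : ∀ x ∈ dJ, ¬ e₁ ∣ x ∧ ¬ e₂ ∣ x)
    (hD : ∀ x ∈ dD, ¬ e₁ ∣ x ∧ ¬ e₂ ∣ x) : Kill3 G r := by
  obtain ⟨l, hl, hl1, -, hlq⟩ := Cfsg.Agent.Lib.Zsigmondy.exists_primitive (a := q) (n := e₁) hq (by omega)
    (by omega) (by omega)
  obtain ⟨k, hk, hk1, -, hkq⟩ := Cfsg.Agent.Lib.Zsigmondy.exists_primitive (a := q) (n := e₂) hq (by omega)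
    (by omega) (by omega)
  have hlr : l ≠ r := fun h => hlq (h ▸ hrq)
  have hkr : k ≠ r := fun h => hkq (h ▸ hrq)
  have hld : ¬ l ∣ d := fun h => by
    have h2 := Nat.le_of_dvd (by norm_num) ((hl1 2).1 (h.trans hd))
    omega
  have hkd : ¬ k ∣ d := fun h => by
    have h2 := Nat.le_of_dvd (by norm_num) ((hk1 2).1 (h.trans hd))
    omega
  refine ⟨l, k, hl, hk, ?_, hlr, hkr, dvd_card_num hcard hl hl1 hS.1 (fun x hx => (hD x hx).1) hld,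
    dvd_card_num hcard hk hk1 hS.2 (fun x hx => (hD x hx).2) hkd,
    kill_num hr hχ h1 hidx hI hcard hl hlr hl1 (fun x hx => (hJ x hx).1),
    kill_num hr hχ h1 hidx hI hcard hk hkr hk1 (fun x hx => (hJ x hx).2)⟩
  rintro rfl
  apply h12
  have h2 := (hk1 e₁).1 ((hl1 e₁).2 dvd_rfl)
  have h3 := (hl1 e₂).1 ((hk1 e₂).2 dvd_rfl)
  exact Nat.dvd_antisymm h3 h2

end Cfsg.Agent.H515.KillExc
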