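import Cfsg.Agent.H53.HC.ExcIn
import Cfsg.Agent.H622.Levi.NonSwap
import Cfsg.Agent.H515.KillNum

/-!
# Two killed primes for `F₄(q)`, `E₆(q)`, `E₇(q)`, `E₈(q)`, `²E₆(q)` (helper515)
-/

set_option autoImplicit false
set_option linter.unusedSectionVars false

namespace Cfsg.Agent.H515.KillExc

open Cfsg Cfsg.Agent.H620 Cfsg.Agent.H620.RowSz
open Cfsg.Agent.H53.HC Cfsg.Agent.H53.HC.ExcRows
open CoxeterSystem Cfsg.Agent.ChevalleyStructure.CoxeterGeom Cfsg.Agent.Tits.Roots Cfsg.Agent.Tits.Core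
  Cfsg.Agent.Tits.Exchange Cfsg.Agent.Nodes.Reps Cfsg.Agent.Nodes.BNOf Cfsg.Agent.Nodes.StabComb
  Cfsg.Agent.Nodes.Bruhat Cfsg.Agent.Nodes.OppDec Cfsg.Agent.Nodes.LeviDec Cfsg.Agent.H35.ExcIdx
  Cfsg.Agent.H35.PoinNum

universe u

section Gen

variable {r q l : ℕ} {M : CoxeterMatrix (Fin l)} {A : Fin l → Fin l → ℤ} {h : IsCartan M A} {f : Fin l → ℕ}
  {S : Type*} [Group S] {T : Subgroup S} {n : Fin l → S} {X : (Fin l → ℤ) → Subgroup S}

/-- an irreducible character of degree divisible by the index of `P_J` -/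
def HasIdx (h : IsCartan M A) (T : Subgroup S) (X : (Fin l → ℤ) → Subgroup S) (J : Set (Fin l)) : Prop :=
  ∃ χ : S → ℂ, IsIrrCharacter S χ ∧ ∃ N : ℕ, χ 1 = N ∧ (PJ M.toCoxeterSystem h T X J).index ∣ N

theorem idx_of_one [Finite S] {j k₀ k₁ : Fin l} {K' : Set (Fin l)}
    (D : ExcData r q h f {i | i ≠ j} T n X) (hJ : ({i | i ≠ j} : Set (Fin l)) = {k₀, k₁} ∪ K')
    (ho : ∀ i ∈ ({k₀, k₁} : Set (Fin l)), ∀ i' ∈ K', M i i' = 2) (hk : M k₀ k₁ = 3) (hk1 : M k₁ j = 2)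
    (hk0 : M k₀ j = 3 ∨ M k₀ j = 4)
    (hun : ∀ a b, a ≠ j → b ≠ j → M a b = 3 → (∀ c, c ≠ j → c ≠ a → c ≠ b → M a c = 2 ∧ M b c = 2) →
      (a = k₀ ∧ b = k₁) ∨ (a = k₁ ∧ b = k₀))
    (hA2 : InA2 h X q k₀ k₁) (hK' : In h X K') : HasIdx h T X {i | i ≠ j} := by
  classical
  have := D.fin
  have : Fintype S := Fintype.ofFinite S
  obtain ⟨θ, hθ, hns, d, t, hd, hdt, ht⟩ := hA2
  obtain ⟨θ', hθ'⟩ := hK'
  have hmem : ∀ i, i ∈ ({i | i ≠ j} : Set (Fin l)) ↔ i ≠ j := fun i => Iff.rfl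
  have hk0J : k₀ ∈ ({i | i ≠ j} : Set (Fin l)) := by rw [hJ]; simp
  have hk1J : k₁ ∈ ({i | i ≠ j} : Set (Fin l)) := by rw [hJ]; simp
  obtain ⟨χ, hχ, k, hk0', hχ1⟩ := exists_irr_one D.rgd D.gg hmem hJ (orth_of h ho) rfl
    (isoPair_of h hk0J hk1J hk fun c hc hc0 hc1 => by
      rw [hJ] at hc
      rcases hc with hc | hc
      · rcases hc with rfl | rfl
        · exact absurd rfl hc0
        · exact absurd rfl hc1
      · exact ⟨ho _ (by simp) c hc, ho _ (by simp) c hc⟩)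
    (cartan_two h hk1).1 (not_three_dvd h hk0)
    (fun a b hab => by
      obtain ⟨h1, h2, h3, h4⟩ := of_isoPair h hab
      exact hun a b h1 h2 h3 h4)
    hθ hns hθ'
  obtain ⟨e, -, he⟩ := Cfsg.Agent.Characters.Core.isIrr_apply_one hθ'.irr
  refine ⟨χ, hχ, (PJ M.toCoxeterSystem h T X {i | i ≠ j}).index * (k * (d * e)), ?_, Dvd.intro _ rfl⟩
  rw [hχ1, hd, he]; push_cast; ring

theorem idx_of_two [Finite S] {j k₀ k₁ l₀ l₁ : Fin l} {N : Set (Fin l)}
    (D : ExcData r q h f {i | i ≠ j} T n X) (hJ : ({i | i ≠ j} : Set (Fin l)) = {k₀, k₁} ∪ ({l₀, l₁} ∪ N))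
    (hoK : ∀ i ∈ ({k₀, k₁} : Set (Fin l)), ∀ i' ∈ ({l₀, l₁} ∪ N : Set (Fin l)), M i i' = 2)
    (hoL : ∀ i ∈ ({l₀, l₁} : Set (Fin l)), ∀ i' ∈ N, M i i' = 2)
    (hk : M k₀ k₁ = 3) (hk1 : M k₁ j = 2) (hk0 : M k₀ j = 3) (hl : M l₀ l₁ = 3) (hl1 : M l₁ j = 2) (hl0 : M l₀ j = 3)
    (hun : ∀ a b, a ≠ j → b ≠ j → M a b = 3 → (∀ c, c ≠ j → c ≠ a → c ≠ b → M a c = 2 ∧ M b c = 2) →
      (a = k₀ ∧ b = k₁) ∨ (a = k₁ ∧ b = k₀) ∨ (a = l₀ ∧ b = l₁) ∨ (a = l₁ ∧ b = l₀))
    (hA2 : InA2 h X q k₀ k₁)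
    (hL : ∃ α α' : ↥(MJ M.toCoxeterSystem h X {l₀, l₁}) → ℂ, Cusp M.toCoxeterSystem h X {l₀, l₁} α ∧
      Cusp M.toCoxeterSystem h X {l₀, l₁} α' ∧
      ∀ t (ht : t ∈ T), α' ≠ α ∘ conjME (MJ M.toCoxeterSystem h X {l₀, l₁}) (T_le_normalizer_MJ D.rgd {l₀, l₁} ht))
    (hN : In h X N) : HasIdx h T X {i | i ≠ j} := by
  classical
  have := D.fin
  have : Fintype S := Fintype.ofFinite S
  obtain ⟨θ, hθ, hns, d, t, hd, hdt, ht⟩ := hA2
  obtain ⟨α, α', hα, hα', hne⟩ := hL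
  obtain ⟨β, hβ⟩ := hN
  have hmem : ∀ i, i ∈ ({i | i ≠ j} : Set (Fin l)) ↔ i ≠ j := fun i => Iff.rfl
  have hk0J : k₀ ∈ ({i | i ≠ j} : Set (Fin l)) := by rw [hJ]; simp
  have hk1J : k₁ ∈ ({i | i ≠ j} : Set (Fin l)) := by rw [hJ]; simp
  have hl0J : l₀ ∈ ({i | i ≠ j} : Set (Fin l)) := by rw [hJ]; simp
  have hl1J : l₁ ∈ ({i | i ≠ j} : Set (Fin l)) := by rw [hJ]; simp
  obtain ⟨χ, hχ, k, hk0', hχ1⟩ := exists_irr_two D.rgd D.gg hmem hJ (orth_of h hoK) (orth_of h hoL) rfl rfl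
    (isoPair_of h hk0J hk1J hk fun c hc hc0 hc1 => by
      rw [hJ] at hc
      rcases hc with hc | hc
      · rcases hc with rfl | rfl
        · exact absurd rfl hc0
        · exact absurd rfl hc1
      · exact ⟨hoK _ (by simp) c hc, hoK _ (by simp) c hc⟩)
    (isoPair_of h hl0J hl1J hl fun c hc hc0 hc1 => by
      rw [hJ] at hc
      rcases hc with hc | hc | hc
      · have e1 := hoK c hc l₀ (by simp)
        have e2 := hoK c hc l₁ (by simp)
        rw [M.symmetric] at e1 e2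
        exact ⟨e1, e2⟩
      · rcases hc with rfl | rfl
        · exact absurd rfl hc0
        · exact absurd rfl hc1
      · exact ⟨hoL _ (by simp) c hc, hoL _ (by simp) c hc⟩)
    (cartan_two h hk1).1 (cartan_two h hl1).1 (not_three_dvd h (Or.inl hk0))
    ((cartan_three h hl0).1.trans (cartan_three h hk0).1.symm)
    (fun a b hab => by
      obtain ⟨h1, h2, h3, h4⟩ := of_isoPair h hab
      exact hun a b h1 h2 h3 h4)
    hθ hns hα hα' hne hβ
  refine ⟨χ, hχ, (PJ M.toCoxeterSystem h T X {i | i ≠ j}).index * (k * d), ?_, Dvd.intro _ rfl⟩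
  rw [hχ1, hd]; push_cast; ring

theorem inA2_of [Finite S] {J : Set (Fin l)} (D : ExcData r q h f J T n X) {k₀ k₁ : Fin l} (hM : M k₀ k₁ = 3)
    (hq : f k₀ = q) : InA2 h X q k₀ k₁ := by
  have := D.fin
  exact H622.Levi.inA2 D.rgd hM (by rw [D.size, hq])

end Gen

theorem sub_one_dvd_sq (q : ℕ) : q - 1 ∣ q ^ 2 - 1 := by
  have h := Nat.sub_dvd_pow_sub_pow q 1 2
  rwa [one_pow] at h

theorem add_one_dvd_sq {q : ℕ} (hq : 1 ≤ q) : q + 1 ∣ q ^ 2 - 1 := by
  rw [(fac hq).1]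
  exact Dvd.intro_left _ rfl

/-! ### the split groups -/

section split

open Cfsg.Lie Cfsg.Agent.Nodes.RGDChev

variable {K : Type u} [Field K] [Fintype K] {r f : ℕ} (hr : r.Prime) (hf : f ≠ 0)
  (hK : Fintype.card K = r ^ f) [CharP K r]

include hr hf hK in
theorem hasIdx_E8 : HasIdx hpE8.isCartan (TT chevE8 K) (XX chevE8 8 K) {i | i ≠ 3} := by
  have := finite_group (K := K) chevE8
  have D := data_E8_3 hr hf hK
  have h4 : In hpE8.isCartan (XX chevE8 8 K) {4, 5, 6, 7} := by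
    rw [← range_k8]
    exact in_chain D (by norm_num) k8 hk8
  have h1 : In hpE8.isCartan (XX chevE8 8 K) {1} := in_node D 1 3 (by decide +kernel)
  refine idx_of_one D (K' := {1} ∪ {4, 5, 6, 7}) compl8 ?_ (by decide +kernel) (by decide +kernel)
    (by decide +kernel) un8 (inA2_of D (by decide +kernel) rfl) (In.union D h1 h4 ?_)
  · intro i hi i' hi'
    exact or8a i (by simpa using hi) i' (by simpa using hi')
  · intro i hi i' hi'
    exact or8b i (by simpa using hi) i' (by simpa using hi')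

include hr hf hK in
theorem hasIdx_E7 : HasIdx hpE7.isCartan (TT chevE7 K) (XX chevE7 7 K) {i | i ≠ 3} := by
  have := finite_group (K := K) chevE7
  have D := data_E7_3 hr hf hK
  have h4 : In hpE7.isCartan (XX chevE7 7 K) {4, 5, 6} := by
    rw [← range_k7]
    exact in_chain D (by norm_num) k7 hk7
  have h1 : In hpE7.isCartan (XX chevE7 7 K) {1} := in_node D 1 3 (by decide +kernel)
  refine idx_of_one D (K' := {1} ∪ {4, 5, 6}) compl7 ?_ (by decide +kernel) (by decide +kernel)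
    (by decide +kernel) un7 (inA2_of D (by decide +kernel) rfl) (In.union D h1 h4 ?_)
  · intro i hi i' hi'
    exact or7a i (by simpa using hi) i' (by simpa using hi')
  · intro i hi i' hi'
    exact or7b i (by simpa using hi) i' (by simpa using hi')

include hr hf hK in
theorem hasIdx_F4 : HasIdx hpF4.isCartan (TT chevF4 K) (XX chevF4 4 K) {i | i ≠ 2} := by
  have := finite_group (K := K) chevF4
  have D := data_F4_2 hr hf hK
  have h1 : In hpF4.isCartan (XX chevF4 4 K) {3} := in_node D 3 2 (by decide +kernel)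
  refine idx_of_one D (K' := {3}) compl4 ?_ (by decide +kernel) (by decide +kernel)
    (by decide +kernel) un4 (inA2_of D (by decide +kernel) rfl) h1
  intro i hi i' hi'
  exact or4 i (by simpa using hi) i' (by simpa using hi')

include hr hf hK in
theorem hasIdx_E6 : HasIdx hpE6.isCartan (TT chevE6 K) (XX chevE6 6 K) {i | i ≠ 3} := by
  have := finite_group (K := K) chevE6
  have D := data_E6_3 hr hf hK
  have h1 : In hpE6.isCartan (XX chevE6 6 K) {1} := in_node D 1 3 (by decide +kernel)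
  have hfin := D.fin
  refine idx_of_two D (N := {1}) compl6 ?_ ?_ (by decide +kernel) (by decide +kernel)
    (by decide +kernel) (by decide +kernel) (by decide +kernel) (by decide +kernel) un6
    (inA2_of D (by decide +kernel) rfl) (H622.Levi.pair D.rgd (by decide +kernel)) h1
  · intro i hi i' hi'
    exact or6a i (by simpa using hi) i' (by simpa using hi')
  · intro i hi i' hi'
    exact or6b i (by simpa using hi) i' (by simpa using hi')

include hr hf hK in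
theorem kill3_E8' : Kill3 ↥(chevE8.group K) r := by
  have := finite_group (K := K) chevE8
  have : Fact r.Prime := ⟨hr⟩
  obtain ⟨χ, hχ, N, hN, hidx⟩ := hasIdx_E8 hr hf hK
  have h2 := two_le hr hf
  have hJ : ({j | j ≠ 3} : Set (Fin 8)) = {j | j ∈ ([0, 1, 2, 4, 5, 6, 7] : List (Fin 8))} := by
    ext j; revert j; decide
  have hfin := finite_W hpE8 CoxeterMatrix.E₈.toCoxeterSystem
  have R := rgd (K := K) hpE8 CoxeterMatrix.E₈.toCoxeterSystem r
  have hc : ∀ i, Nat.card (XX chevE8 8 K (sr i)) = r ^ f := fun i => by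
    rw [card_XX hpE8 K CoxeterMatrix.E₈.toCoxeterSystem (isRoot_sr _ _ i), Nat.card_eq_fintype_card, hK]
  have h3 := Cfsg.Agent.S1065.result hK
  have hI := index_split hpE8 K hr hf hK CoxeterMatrix.E₈.toCoxeterSystem (J := {j | j ≠ 3}) (d := 1)
    (N := FA 2 (r ^ f) * (FA 1 (r ^ f) * (FA 4 (r ^ f) * 1)))
    (P := pr (r ^ f) [2, 8, 12, 14, 18, 20, 24, 30]) (not_dvd_of_dvd hr hf (one_dvd _))
    (by rw [← hK]; exact Cfsg.Agent.S1035.result rfl (chevE8, 1) (by simp))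
    ⟨f * 120, by
      rw [pow_mul]
      simp only [pr_cons, pr_nil]
      rw [one_mul, h3]
      ring⟩ (not_dvd_pr hr hf _ (by simp)) (by
        rw [hJ]
        exact card_step R path_E8_3_0 (fun i _ => hc i) (card_step R path_E8_3_1 (fun i _ => hc i)
          (card_step R path_E8_3_2 (fun i _ => hc i) (card_nil R))))
  refine kill3_num (q := r ^ f) (d := 1) (b := f * 120) (e₁ := 30) (e₂ := 24) (dS := [2, 8, 12, 14, 18, 20, 24, 30])
    (dJ := [1, 2, 3, 2, 2, 3, 4, 5]) (dD := []) hr h2 (dvd_pow_self r hf) hχ hN hidx ?_ ?_ (one_dvd _) (by norm_num)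
    (by norm_num) (by decide) (by decide) (by decide)
  · rw [← hI]
    have e1 := mul_poin (show 1 ≤ r ^ f by omega) 1
    have e2 := mul_poin (show 1 ≤ r ^ f by omega) 2
    have e4 := mul_poin (show 1 ≤ r ^ f by omega) 4
    have e : pr (r ^ f) [1, 2, 3, 2, 2, 3, 4, 5] = (r ^ f - 1) ^ 1 * ((∏ i ∈ Finset.range 2, ((r ^ f) ^ (i + 2) - 1)) * (∏ i ∈ Finset.range 1, ((r ^ f) ^ (i + 2) - 1)) * (∏ i ∈ Finset.range 4, ((r ^ f) ^ (i + 2) - 1))) := by
      simp only [pr_cons, pr_nil, Finset.prod_range_succ, Finset.prod_range_zero, pow_one]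
      ring
    rw [e, ← e1, ← e2, ← e4]
    unfold FA
    ring
  · rw [pow_mul]
    simp only [pr_cons, pr_nil]
    rw [one_mul, h3]
    ring

include hr hf hK in
theorem kill3_E7' : Kill3 ↥(chevE7.group K) r := by
  have := finite_group (K := K) chevE7
  have : Fact r.Prime := ⟨hr⟩
  obtain ⟨χ, hχ, N, hN, hidx⟩ := hasIdx_E7 hr hf hK
  have h2 := two_le hr hf
  have hJ : ({j | j ≠ 3} : Set (Fin 7)) = {j | j ∈ ([0, 1, 2, 4, 5, 6] : List (Fin 7))} := by
    ext j; revert j; decide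
  have hfin := finite_W hpE7 CoxeterMatrix.E₇.toCoxeterSystem
  have R := rgd (K := K) hpE7 CoxeterMatrix.E₇.toCoxeterSystem r
  have hc : ∀ i, Nat.card (XX chevE7 7 K (sr i)) = r ^ f := fun i => by
    rw [card_XX hpE7 K CoxeterMatrix.E₇.toCoxeterSystem (isRoot_sr _ _ i), Nat.card_eq_fintype_card, hK]
  have h3 := Cfsg.Agent.S1064.result hK
  have hI := index_split hpE7 K hr hf hK CoxeterMatrix.E₇.toCoxeterSystem (J := {j | j ≠ 3})
    (d := Nat.gcd 2 (r ^ f - 1))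
    (N := FA 2 (r ^ f) * (FA 1 (r ^ f) * (FA 3 (r ^ f) * 1)))
    (P := pr (r ^ f) [2, 6, 8, 10, 12, 14, 18]) (not_dvd_of_dvd hr hf (Nat.gcd_dvd_right _ _))
    (by rw [← hK]; exact Cfsg.Agent.S1035.result rfl (chevE7, Nat.gcd 2 (Fintype.card K - 1)) (by simp))
    ⟨f * 63, by
      rw [pow_mul]
      simp only [pr_cons, pr_nil]
      rw [h3]
      ring⟩ (not_dvd_pr hr hf _ (by simp)) (by
        rw [hJ]
        exact card_step R path_E7_3_0 (fun i _ => hc i) (card_step R path_E7_3_1 (fun i _ => hc i)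
          (card_step R path_E7_3_2 (fun i _ => hc i) (card_nil R))))
  refine kill3_num (q := r ^ f) (d := Nat.gcd 2 (r ^ f - 1)) (b := f * 63) (e₁ := 18) (e₂ := 14)
    (dS := [2, 6, 8, 10, 12, 14, 18])
    (dJ := [1, 2, 3, 2, 2, 3, 4]) (dD := []) hr h2 (dvd_pow_self r hf) hχ hN hidx ?_ ?_ ?_ (by norm_num)
    (by norm_num) (by decide) (by decide) (by decide)
  · rw [← hI]
    have e1 := mul_poin (show 1 ≤ r ^ f by omega) 1
    have e2 := mul_poin (show 1 ≤ r ^ f by omega) 2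
    have e3 := mul_poin (show 1 ≤ r ^ f by omega) 3
    have e : pr (r ^ f) [1, 2, 3, 2, 2, 3, 4] = (r ^ f - 1) ^ 1 * ((∏ i ∈ Finset.range 2, ((r ^ f) ^ (i + 2) - 1)) * (∏ i ∈ Finset.range 1, ((r ^ f) ^ (i + 2) - 1)) * (∏ i ∈ Finset.range 3, ((r ^ f) ^ (i + 2) - 1))) := by
      simp only [pr_cons, pr_nil, Finset.prod_range_succ, Finset.prod_range_zero, pow_one]
      ring
    rw [e, ← e1, ← e2, ← e3]
    unfold FA
    ring
  · rw [pow_mul]
    simp only [pr_cons, pr_nil]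
    rw [h3]
    ring
  · exact (Nat.gcd_dvd_right _ _).trans (sub_one_dvd_sq _)

include hr hf hK in
theorem kill3_E6' : Kill3 ↥(chevE6.group K) r := by
  have := finite_group (K := K) chevE6
  have : Fact r.Prime := ⟨hr⟩
  obtain ⟨χ, hχ, N, hN, hidx⟩ := hasIdx_E6 hr hf hK
  have h2 := two_le hr hf
  have hJ : ({j | j ≠ 3} : Set (Fin 6)) = {j | j ∈ ([0, 1, 2, 4, 5] : List (Fin 6))} := by
    ext j; revert j; decide
  have hfin := finite_W hpE6 CoxeterMatrix.E₆.toCoxeterSystem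
  have R := rgd (K := K) hpE6 CoxeterMatrix.E₆.toCoxeterSystem r
  have hc : ∀ i, Nat.card (XX chevE6 6 K (sr i)) = r ^ f := fun i => by
    rw [card_XX hpE6 K CoxeterMatrix.E₆.toCoxeterSystem (isRoot_sr _ _ i), Nat.card_eq_fintype_card, hK]
  have h3 := Cfsg.Agent.S1063.result hK
  have hI := index_split hpE6 K hr hf hK CoxeterMatrix.E₆.toCoxeterSystem (J := {j | j ≠ 3})
    (d := Nat.gcd 3 (r ^ f - 1))
    (N := FA 2 (r ^ f) * (FA 1 (r ^ f) * (FA 2 (r ^ f) * 1)))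
    (P := pr (r ^ f) [2, 5, 6, 8, 9, 12]) (not_dvd_of_dvd hr hf (Nat.gcd_dvd_right _ _))
    (by rw [← hK]; exact Cfsg.Agent.S1035.result rfl (chevE6, Nat.gcd 3 (Fintype.card K - 1)) (by simp))
    ⟨f * 36, by
      rw [pow_mul]
      simp only [pr_cons, pr_nil]
      rw [h3]
      ring⟩ (not_dvd_pr hr hf _ (by simp)) (by
        rw [hJ]
        exact card_step R path_E6_3_0 (fun i _ => hc i) (card_step R path_E6_3_1 (fun i _ => hc i)
          (card_step R path_E6_3_2 (fun i _ => hc i) (card_nil R))))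
  refine kill3_num (q := r ^ f) (d := Nat.gcd 3 (r ^ f - 1)) (b := f * 36) (e₁ := 12) (e₂ := 9)
    (dS := [2, 5, 6, 8, 9, 12])
    (dJ := [1, 2, 3, 2, 2, 3]) (dD := []) hr h2 (dvd_pow_self r hf) hχ hN hidx ?_ ?_ ?_ (by norm_num)
    (by norm_num) (by decide) (by decide) (by decide)
  · rw [← hI]
    have e1 := mul_poin (show 1 ≤ r ^ f by omega) 1
    have e2 := mul_poin (show 1 ≤ r ^ f by omega) 2
    have e : pr (r ^ f) [1, 2, 3, 2, 2, 3] = (r ^ f - 1) ^ 1 * ((∏ i ∈ Finset.range 2, ((r ^ f) ^ (i + 2) - 1)) * (∏ i ∈ Finset.range 1, ((r ^ f) ^ (i + 2) - 1)) * (∏ i ∈ Finset.range 2, ((r ^ f) ^ (i + 2) - 1))) := by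
      simp only [pr_cons, pr_nil, Finset.prod_range_succ, Finset.prod_range_zero, pow_one]
      ring
    rw [e, ← e1, ← e2]
    unfold FA
    ring
  · rw [pow_mul]
    simp only [pr_cons, pr_nil]
    rw [h3]
    ring
  · exact (Nat.gcd_dvd_right _ _).trans (sub_one_dvd_sq _)

include hr hf hK in
theorem kill3_F4' : Kill3 ↥(chevF4.group K) r := by
  have := finite_group (K := K) chevF4
  have : Fact r.Prime := ⟨hr⟩
  obtain ⟨χ, hχ, N, hN, hidx⟩ := hasIdx_F4 hr hf hK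
  have h2 := two_le hr hf
  have hJ : ({j | j ≠ 2} : Set (Fin 4)) = {j | j ∈ ([0, 1, 3] : List (Fin 4))} := by
    ext j; revert j; decide
  have hfin := finite_W hpF4 CoxeterMatrix.F₄.toCoxeterSystem
  have R := rgd (K := K) hpF4 CoxeterMatrix.F₄.toCoxeterSystem r
  have hc : ∀ i, Nat.card (XX chevF4 4 K (sr i)) = r ^ f := fun i => by
    rw [card_XX hpF4 K CoxeterMatrix.F₄.toCoxeterSystem (isRoot_sr _ _ i), Nat.card_eq_fintype_card, hK]
  have h3 := Cfsg.Agent.S1062.result hK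
  have hI := index_split hpF4 K hr hf hK CoxeterMatrix.F₄.toCoxeterSystem (J := {j | j ≠ 2}) (d := 1)
    (N := FA 2 (r ^ f) * (FA 1 (r ^ f) * 1))
    (P := pr (r ^ f) [2, 6, 8, 12]) (not_dvd_of_dvd hr hf (one_dvd _))
    (by rw [← hK]; exact Cfsg.Agent.S1035.result rfl (chevF4, 1) (by simp))
    ⟨f * 24, by
      rw [pow_mul]
      simp only [pr_cons, pr_nil]
      rw [one_mul, h3]
      ring⟩ (not_dvd_pr hr hf _ (by simp)) (by
        rw [hJ]
        exact card_step R path_F4_2_0 (fun i _ => hc i) (card_step R path_F4_2_1 (fun i _ => hc i)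
          (card_nil R)))
  refine kill3_num (q := r ^ f) (d := 1) (b := f * 24) (e₁ := 12) (e₂ := 8) (dS := [2, 6, 8, 12])
    (dJ := [1, 2, 3, 2]) (dD := []) hr h2 (dvd_pow_self r hf) hχ hN hidx ?_ ?_ (one_dvd _) (by norm_num)
    (by norm_num) (by decide) (by decide) (by decide)
  · rw [← hI]
    have e1 := mul_poin (show 1 ≤ r ^ f by omega) 1
    have e2 := mul_poin (show 1 ≤ r ^ f by omega) 2
    have e : pr (r ^ f) [1, 2, 3, 2] = (r ^ f - 1) ^ 1 * ((∏ i ∈ Finset.range 2, ((r ^ f) ^ (i + 2) - 1)) * (∏ i ∈ Finset.range 1, ((r ^ f) ^ (i + 2) - 1))) := by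
      simp only [pr_cons, pr_nil, Finset.prod_range_succ, Finset.prod_range_zero, pow_one]
      ring
    rw [e, ← e1, ← e2]
    unfold FA
    ring
  · rw [pow_mul]
    simp only [pr_cons, pr_nil]
    rw [one_mul, h3]
    ring

end split

/-! ### the twisted groups of type `E₆` -/

section tw

open Cfsg.Agent.Nodes Cfsg.Lie Cfsg.Agent.ChevalleyStructure

variable {K : Type u} [Field K] [Fintype K] {q : ℕ} {φ : K →+* K}
  {r f : ℕ} (hr : r.Prime) (hf : f ≠ 0) (hq : q = r ^ f) [CharP K r]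
  (hφ : ∀ x, φ x = x ^ q) (hqq : ∀ t : K, (t ^ q) ^ q = t) (hK : Fintype.card K = q ^ 2)

include hr hf hq hqq hK hφ in
theorem hasIdx_TwE6 : HasIdx RGDTwE6.isCartan (Nodes.RGDTwE6.T K q) (RGDTwE6.X φ q) {i | i ≠ 2} := by
  have : Finite ↥(twistedE6 K q) := by
    have : Finite (GL chevE6.Idx K) := by
      have : Finite (Matrix chevE6.Idx chevE6.Idx K) := inferInstance
      infer_instance
    infer_instance
  have D := data_TwE6_2 hr hf hq hφ hqq hK
  have h1 : In RGDTwE6.isCartan (RGDTwE6.X φ q) {3} := in_node D 3 2 (by decide +kernel)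
  refine idx_of_one D (K' := {3}) compl4 ?_ (by decide +kernel) (by decide +kernel)
    (by decide +kernel) un4 (inA2_of D (by decide +kernel) (by simp [fE])) h1
  intro i hi i' hi'
  exact or4 i (by simpa using hi) i' (by simpa using hi')

include hr hf hq hqq hK hφ in
theorem kill3_TwE6' : Kill3 ↥(twistedE6 K q) r := by
  have : Finite ↥(twistedE6 K q) := by
    have : Finite (GL chevE6.Idx K) := by
      have : Finite (Matrix chevE6.Idx chevE6.Idx K) := inferInstance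
      infer_instance
    infer_instance
  have : Fact r.Prime := ⟨hr⟩
  obtain ⟨χ, hχ, N, hN, hidx⟩ := hasIdx_TwE6 hr hf hq hφ hqq hK
  have h2 : 2 ≤ q := by rw [hq]; exact two_le hr hf
  have hpp : IsPrimePow q := by rw [hq]; exact hr.isPrimePow.pow hf
  have hfin : Finite CoxeterMatrix.F₄.Group := Nodes.RGDFold.finite_W (hp := Nodes.RGDTwE6.hp)
    CoxeterMatrix.F₄.toCoxeterSystem Nodes.RGDTwE6.isCartan Nodes.RGDTwE6.foldData
  have R := Nodes.RGDTwE6.rgd CoxeterMatrix.F₄.toCoxeterSystem hφ hqq r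
  have hG1 : Nodes.RGDLib.G1 CoxeterMatrix.F₄.toCoxeterSystem Nodes.RGDTwE6.isCartan (Nodes.RGDTwE6.X φ q) = ⊤ :=
    Nodes.RGDTwE6.G1_eq_top _ hφ hqq
  have hGG : GG CoxeterMatrix.F₄.toCoxeterSystem Nodes.RGDTwE6.isCartan (Nodes.RGDTwE6.T K q)
      (Nodes.RGDTwE6.X φ q) = ⊤ := by
    rw [eq_top_iff, ← hG1]
    exact le_sup_right
  have hc := card_X_tw (φ := φ) hφ hqq (by omega) hK
  have hP : ¬ r ∣ PT q := by
    intro h3
    have h4 : r ∣ pr q [2, 6, 8, 10, 12, 18] := by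
      rw [← PT_mul (by omega)]; exact Dvd.dvd.mul_right h3 _
    rw [hq] at h4
    exact not_dvd_pr hr hf _ (by simp) h4
  have hT : Nat.gcd 3 (q + 1) * Nat.card ↥(Nodes.RGDTwE6.T K q) = (q - 1) ^ 4 * (q + 1) ^ 2 := by
    rw [← Cfsg.Agent.S1102.result hpp hK]
    congr 1
    exact Nat.card_congr (Subgroup.subgroupOfEquivOfLe inf_le_right).toEquiv
  have hd : ¬ r ∣ Nat.gcd 3 (q + 1) := by
    intro h3
    have h4 : r ∣ q + 1 := h3.trans (Nat.gcd_dvd_right _ _)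
    have h5 : r ∣ q := by rw [hq]; exact dvd_pow_self r hf
    exact hr.one_lt.ne' (Nat.dvd_one.1 ((Nat.dvd_add_right h5).1 h4))
  have hS : Nat.gcd 3 (q + 1) * Nat.card ↥(twistedE6 K q) = r ^ (f * 36) * PT q := by
    rw [Cfsg.Agent.S1066.result hpp hK, pow_mul, ← hq]
    unfold PT
    ring
  have hJ : ({j | j ≠ 2} : Set (Fin 4)) = {j | j ∈ ([0, 1, 3] : List (Fin 4))} := by
    ext j; revert j; decide
  have hI := index_eq (J := {j | j ≠ 2}) (N := FA 2 q * (FA 1 (q ^ 2) * 1)) R hGG (by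
    rw [hJ]
    refine card_step R path_T_0 (fun i hi => ?_) (card_step R path_T_1 (fun i hi => ?_) (card_nil R))
    · rw [hc]; revert i; simp [fE]
    · rw [hc]; revert i; simp [fE]) hd hT hS hP
  refine kill3_num (q := q) (d := Nat.gcd 3 (q + 1)) (b := f * 36) (e₁ := 18) (e₂ := 12)
    (dS := [2, 6, 8, 10, 12, 18]) (dJ := [2, 2, 3, 4, 5, 9]) (dD := [5, 9]) hr h2
    (by rw [hq]; exact dvd_pow_self r hf) hχ hN hidx ?_ ?_ ?_ (by norm_num)
    (by norm_num) (by decide) (by decide) (by decide)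
  · obtain ⟨e1, e2, e3, e4⟩ := fac (q := q) (by omega)
    rw [← PT_mul (by omega), ← hI]
    simp only [pr_cons, pr_nil, FA, Finset.prod_range_succ, Finset.prod_range_zero, Finset.sum_range_succ,
      Finset.sum_range_zero]
    rw [e1, e2, e3]
    ring
  · rw [hS, ← PT_mul (by omega)]
    ring
  · exact (Nat.gcd_dvd_right _ _).trans (add_one_dvd_sq (by omega))

end tw

end Cfsg.Agent.H515.KillExc
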