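import Cfsg.Agent.H515.KillRankTwo
import Cfsg.Agent.H710.LtwoSL2
import Cfsg.Agent.H320.Kill.Pair

/-!
# Harish-Chandra induction in rank two: zeros outside the parabolic subgroup; `³D₄(q)` (helper515)
-/

set_option autoImplicit false
set_option linter.unusedSectionVars false

open scoped ComplexConjugate
open Cfsg

namespace Cfsg.Agent.H515.KillExc

section van

open CoxeterSystem Cfsg.Agent.ChevalleyStructure.CoxeterGeom Cfsg.Agent.Tits.Roots Cfsg.Agent.Tits.Core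
  Cfsg.Agent.Tits.Exchange Cfsg.Agent.Nodes.Reps Cfsg.Agent.Nodes.BNOf Cfsg.Agent.Nodes.StabComb
  Cfsg.Agent.Nodes.Bruhat Cfsg.Agent.Nodes.OppDec Cfsg.Agent.Nodes.LeviDec Cfsg.Agent.H53.HC
  Cfsg.Agent.LieRecognition.RankOneAbstract Cfsg.Agent.Characters Cfsg.Agent.H115.HC

/-- An induced function vanishes at the elements without conjugates in the subgroup. -/
theorem indFun_zero {G : Type*} [Group G] [Fintype G] (H : Subgroup G) (θ : H → ℂ) {g : G}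
    (hg : ∀ y, y⁻¹ * g * y ∉ H) : indFun H θ g = 0 := by
  classical
  rw [Core.indFun_apply]
  have h1 : ∀ x : G, extendByZero H θ (x⁻¹ * g * x) = 0 := by
    intro x
    unfold extendByZero
    rw [Function.extend_apply' _ _ _ (by
      rintro ⟨a, ha⟩
      exact hg x (ha ▸ a.2))]
    rfl
  simp only [h1, Finset.sum_const_zero, mul_zero]

section one

variable {I W Y : Type*} [Fintype I] [DecidableEq I] [Group W] [Group Y] {M : CoxeterMatrix I}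
  {cs : CoxeterSystem M W} {A : I → I → ℤ} {h : IsCartan M A} {p : ℕ} {T : Subgroup Y} {n : I → Y}
  {X : (I → ℤ) → Subgroup Y}

variable (R : RGD cs h p T n X)

include R

theorem exists_chi_of_psi_van [Finite W] [Fintype Y] (hG : GG cs h T X = ⊤) (i : I)
    {ψ : ↥(LJ cs h T X {i}) → ℂ} (hψ : IsIrrCharacter _ ψ)
    (hc : ∀ [Fintype ((X (sr i)).subgroupOf (LJ cs h T X {i}))],
        ∑ u : (X (sr i)).subgroupOf (LJ cs h T X {i}), ψ u = 0)
    (hs : ∀ w g, Rp cs R.nsys w g → w ∉ WJ cs {i} → rep cs h w (sr i) = sr i →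
      ∃ (L : Subgroup Y) (hL : L ≤ LJ cs h T X {i}) (hL' : ∀ l ∈ L, g⁻¹ * l * g ∈ LJ cs h T X {i}),
        ∀ [Fintype L], ∑ l : L, ψ ⟨l, hL l.2⟩ * conj (ψ ⟨g⁻¹ * l * g, hL' l l.2⟩) = 0) :
    ∃ χ : Y → ℂ, IsIrrCharacter Y χ ∧ χ 1 = (PJ cs h T X {i}).index * ψ 1 ∧
      ∀ g, (∀ y, y⁻¹ * g * y ∉ PJ cs h T X {i}) → χ g = 0 := by
  classical
  obtain ⟨ψ', hψ', hψL, hψV⟩ := exists_infl R {i} hψ
  refine ⟨indFun (PJ cs h T X {i}) ψ', ?_, ?_, fun g hg => indFun_zero _ _ hg⟩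
  · refine isIrr_indFun_rgd R hG {i} hψ' hψV ?_ ?_
    · intro k hk hf
      obtain rfl : k = i := hk
      have hf' : Fintype ((X (sr k)).subgroupOf (LJ cs h T X {k})) := Fintype.ofFinite _
      rw [← hc]
      refine Fintype.sum_equiv ((MulEquiv.subgroupCongr (rad_single k)).trans
        (Subgroup.subgroupOfEquivOfLe (X_le_LJ_single (T := T) k)).symm).toEquiv _ _ fun u => ?_
      rw [← hψL]
      rfl
    · intro w g hg hw hp
      have hwi : rep cs h w (sr i) = sr i := by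
        obtain ⟨k, hk, e⟩ := hp.2 i (Set.mem_singleton i)
        rw [e, Set.mem_singleton_iff.1 hk]
      obtain ⟨L, hL, hL', hsum⟩ := hs w g hg hw hwi
      refine ⟨L, le_trans hL LJ_le_PJ, fun l hl => LJ_le_PJ (hL' l hl), ?_⟩
      intro hf
      rw [← hsum]
      refine Finset.sum_congr rfl fun l _ => ?_
      rw [hψL _ (hL l.2), hψL _ (hL' l l.2)]
  · rw [Cfsg.Agent.H53.HC.indFun_one]
    congr 1
    exact hψL 1 (one_mem _)

theorem exists_chi_van [Finite W] [Finite Y] (hG : GG cs h T X = ⊤) (hTc : ∀ a ∈ T, ∀ b ∈ T, a * b = b * a) (i : I)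
    (hU : 2 ≤ Nat.card (X (sr i))) (f : T →* ℂˣ)
    (hf : ∀ w g (hg : Rp cs R.nsys w g), w ∉ WJ cs {i} → ∀ hw : rep cs h w (sr i) = sr i,
      ∃ z, ∃ hz : z ∈ CT T X i, f ⟨z, CT_le hz⟩ ≠ f ⟨g⁻¹ * z * g, CT_le (conj_mem_CT R hg hw hz)⟩) :
    ∃ χ : IrrCharacter Y, (PJ cs h T X {i}).index ∣ charDegree (χ : Y → ℂ) ∧
      ∀ g, (∀ y, y⁻¹ * g * y ∉ PJ cs h T X {i}) → (χ : Y → ℂ) g = 0 := by
  classical
  have := Fintype.ofFinite Y
  obtain ⟨ψ, hψ, hψc, hψz⟩ := exists_psi R hTc i hU f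
  obtain ⟨χ, hχ, hχ1, hχ0⟩ := exists_chi_of_psi_van R hG i hψ hψc (by
    intro w g hg hw hwi
    refine ⟨CT T X i, le_trans CT_le T_le_LJ, fun l hl => T_le_LJ (CT_le (conj_mem_CT R hg hwi hl)), ?_⟩
    intro hfin
    let g1 : CT T X i →* ℂˣ := f.comp (Subgroup.inclusion CT_le)
    let g2 : CT T X i →* ℂˣ := f.comp
      { toFun := fun z => ⟨g⁻¹ * z * g, CT_le (conj_mem_CT R hg hwi z.2)⟩
        map_one' := Subtype.ext (by simp)
        map_mul' := fun a b => Subtype.ext (by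
          change g⁻¹ * (a * b) * g = (g⁻¹ * a * g) * (g⁻¹ * b * g)
          group) }
    have h1 : ∀ l : CT T X i, ψ ⟨l, T_le_LJ (CT_le l.2)⟩ *
        conj (ψ ⟨g⁻¹ * l * g, T_le_LJ (CT_le (conj_mem_CT R hg hwi l.2))⟩) =
        (ψ 1 * conj (ψ 1)) * ((g1 l : ℂ) * conj (g2 l : ℂ)) := by
      intro l
      rw [hψz l l.2, hψz _ (conj_mem_CT R hg hwi l.2), map_mul]
      change (g1 l : ℂ) * ψ 1 * (conj (g2 l : ℂ) * conj (ψ 1)) = _
      ring
    rw [Finset.sum_congr rfl fun l _ => h1 l, ← Finset.mul_sum, sum_conj_hom g1 g2, mul_zero]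
    obtain ⟨z, hz, hne⟩ := hf w g hg hw hwi
    exact ⟨⟨z, hz⟩, hne⟩)
  have hd : χ 1 = (charDegree χ : ℂ) := Cfsg.Agent.Blocks.Basic.irr_one_eq_charDegree hχ
  have hd' : ψ 1 = (charDegree ψ : ℂ) := Cfsg.Agent.Blocks.Basic.irr_one_eq_charDegree hψ
  have hdd : charDegree χ = (PJ cs h T X {i}).index * charDegree ψ := by
    rw [hd, hd'] at hχ1
    exact_mod_cast hχ1
  exact ⟨⟨χ, hχ⟩, ⟨_, hdd⟩, hχ0⟩

theorem exists_chi_inv_van [Finite W] [Finite Y] (hG : GG cs h T X = ⊤) (hTc : ∀ a ∈ T, ∀ b ∈ T, a * b = b * a)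
    (i : I) (hU : 2 ≤ Nat.card (X (sr i))) {z : Y} (hz : z ∈ CT T X i) (hz2 : z * z ≠ 1)
    (hinv : ∀ w g, Rp cs R.nsys w g → w ∉ WJ cs {i} → rep cs h w (sr i) = sr i → g⁻¹ * z * g = z⁻¹) :
    ∃ χ : IrrCharacter Y, (PJ cs h T X {i}).index ∣ charDegree (χ : Y → ℂ) ∧
      ∀ g, (∀ y, y⁻¹ * g * y ∉ PJ cs h T X {i}) → (χ : Y → ℂ) g = 0 := by
  obtain ⟨f, hf⟩ := exists_hom_ne_one hTc (T.mul_mem (CT_le hz) (CT_le hz)) hz2
  refine exists_chi_van R hG hTc i hU f fun w g hg hw hwi => ⟨z, hz, fun he => hf ?_⟩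
  have h1 : f ⟨z * z, T.mul_mem (CT_le hz) (CT_le hz)⟩ = f ⟨z, CT_le hz⟩ * f ⟨z, CT_le hz⟩ := by
    rw [← map_mul]
    rfl
  have h2 : f ⟨g⁻¹ * z * g, CT_le (conj_mem_CT R hg hwi hz)⟩ = (f ⟨z, CT_le hz⟩)⁻¹ := by
    rw [← map_inv]
    congr 1
    exact Subtype.ext (hinv w g hg hw hwi)
  rw [h2] at he
  rw [h1]
  exact mul_eq_one_iff_eq_inv.2 he

end one

section two

variable {W Y : Type*} [Group W] [Group Y] {M : CoxeterMatrix (Fin 2)}
  {cs : CoxeterSystem M W} {A : Fin 2 → Fin 2 → ℤ} {h : IsCartan M A} {p : ℕ} {T : Subgroup Y} {n : Fin 2 → Y}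
  {X : (Fin 2 → ℤ) → Subgroup Y}

variable (R : RGD cs h p T n X)

include R

theorem exists_chi_G2_van [Finite W] [Finite Y] (hG : GG cs h T X = ⊤) (hTc : ∀ a ∈ T, ∀ b ∈ T, a * b = b * a)
    (hA : A 0 1 * A 1 0 = 3) (hU : 2 ≤ Nat.card (X (sr 0))) {a : Y} (ha : a ∈ T) (ha2 : a * a ≠ 1)
    (hinv : (n 1)⁻¹ * a * n 1 = a⁻¹) (hc : ∀ u ∈ X ![2, -A 1 0], a * u = u * a)
    (hc' : ∀ u ∈ X (-![2, -A 1 0]), a * u = u * a) :
    ∃ χ : IrrCharacter Y, (PJ cs h T X {0}).index ∣ charDegree (χ : Y → ℂ) ∧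
      ∀ g, (∀ y, y⁻¹ * g * y ∉ PJ cs h T X {0}) → (χ : Y → ℂ) g = 0 := by
  have hm : Rp cs R.nsys (cs.simple 1 * cs.simple 0) (n 1 * n 0) :=
    (rp_simple cs R.nsys 1).mul (rp_simple cs R.nsys 0)
  have hy : ∀ u ∈ X (sr 0), (n 1 * n 0)⁻¹ * u * (n 1 * n 0) ∈ X ![2, -A 1 0] := by
    intro u hu
    have := R.conj_mem' hm (isRoot_sr cs h 0) hu
    rwa [rep_inv_zero hA] at this
  have hy' : ∀ u ∈ X (-sr 0), (n 1 * n 0)⁻¹ * u * (n 1 * n 0) ∈ X (-![2, -A 1 0]) := by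
    intro u hu
    have := R.conj_mem' hm (isRoot_sr cs h 0).neg hu
    rwa [map_neg, rep_inv_zero hA] at this
  have hzT : (n 1 * n 0) * a * (n 1 * n 0)⁻¹ ∈ T := by
    have h1 := (mem_normalizer_iff_cj.1 hm.mem_normalizer)
    have h2 : (n 1 * n 0) * a * (n 1 * n 0)⁻¹ ∈ cj (n 1 * n 0) T := conj_mem_cj.2 ha
    rwa [h1] at h2
  have hconj : ∀ u, a * ((n 1 * n 0)⁻¹ * u * (n 1 * n 0)) = ((n 1 * n 0)⁻¹ * u * (n 1 * n 0)) * a →
      (n 1 * n 0) * a * (n 1 * n 0)⁻¹ * u = u * ((n 1 * n 0) * a * (n 1 * n 0)⁻¹) := by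
    intro u hu
    calc (n 1 * n 0) * a * (n 1 * n 0)⁻¹ * u =
          (n 1 * n 0) * (a * ((n 1 * n 0)⁻¹ * u * (n 1 * n 0))) * (n 1 * n 0)⁻¹ := by group
      _ = (n 1 * n 0) * (((n 1 * n 0)⁻¹ * u * (n 1 * n 0)) * a) * (n 1 * n 0)⁻¹ := by rw [hu]
      _ = _ := by group
  have hz : (n 1 * n 0) * a * (n 1 * n 0)⁻¹ ∈ CT T X 0 :=
    mem_CT.2 ⟨hzT, fun u hu => hconj u (hc _ (hy u hu)), fun u hu => hconj u (hc' _ (hy' u hu))⟩
  refine exists_chi_inv_van R hG hTc 0 hU hz ?_ ?_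
  · intro h1
    apply ha2
    have h2 : (n 1 * n 0) * (a * a) * (n 1 * n 0)⁻¹ = 1 := by
      rw [← h1]
      group
    rwa [mul_inv_eq_one, mul_eq_left] at h2
  · intro w g hg hw hwi
    have hwv := eq_vv hA hw hwi
    subst hwv
    have hg1 : Rp cs R.nsys (vv cs) ((n 1 * n 0) * n 1 * (n 1 * n 0)⁻¹) :=
      (hm.mul (rp_simple cs R.nsys 1)).mul hm.inv
    have ht := hg1.unique hg
    set m := n 1 * n 0 with hm0
    set t := (m * n 1 * m⁻¹)⁻¹ * g with ht0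
    have e : g = m * n 1 * m⁻¹ * t := by rw [ht0]; group
    have e1 : (m * n 1 * m⁻¹)⁻¹ * (m * a * m⁻¹) * (m * n 1 * m⁻¹) = (m * a * m⁻¹)⁻¹ := by
      calc (m * n 1 * m⁻¹)⁻¹ * (m * a * m⁻¹) * (m * n 1 * m⁻¹) = m * ((n 1)⁻¹ * a * n 1) * m⁻¹ := by group
        _ = _ := by rw [hinv]; group
    have e2 := hTc _ (inv_mem hzT) _ ht
    calc g⁻¹ * (m * a * m⁻¹) * g = t⁻¹ * ((m * n 1 * m⁻¹)⁻¹ * (m * a * m⁻¹) * (m * n 1 * m⁻¹)) * t := by
          rw [e]; group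
      _ = t⁻¹ * ((m * a * m⁻¹)⁻¹ * t) := by rw [e1, mul_assoc]
      _ = t⁻¹ * (t * (m * a * m⁻¹)⁻¹) := by rw [e2]
      _ = _ := by group

end two

end van

section TwD

open CoxeterSystem Cfsg.Agent.ChevalleyStructure.CoxeterGeom Cfsg.Agent.Tits.Roots Cfsg.Agent.Tits.Core
  Cfsg.Agent.Tits.RootComb Cfsg.Agent.Nodes.Comb Cfsg.Agent.Nodes.Reps Cfsg.Agent.Nodes.BNOf
  Cfsg.Agent.Nodes.BNOf.RGD Cfsg.Agent.Nodes.RGDChev Cfsg.Agent.Nodes.RGDFold
open Cfsg.Agent.Nodes.Bruhat Cfsg.Agent.Nodes.LeviDec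
open Cfsg.Lie Cfsg.Agent.ChevalleyStructure Cfsg.Agent.ChevalleyStructure.TwistedU
open Cfsg.Agent.Nodes.RGDFoldSL
open Cfsg.Agent.ChevalleyStructure.SL2Hom (up lo mem_closure_SL2)
open Cfsg.Agent.BiChar.TwDFour Cfsg.Agent.H115.HC.TwDFour
open Cfsg.Agent.H620 Cfsg.Agent.H620.RowSz

variable {K : Type} [Field K] [Fintype K] {q : ℕ}

/-- an irreducible character of `³D₄(q)` of degree divisible by the index of a subgroup `P`, vanishing outside the
conjugates of `P` -/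
theorem exists_chi_twD4 (hq : IsPrimePow q) (hK : Fintype.card K = q ^ 3) :
    ∃ (P : Subgroup ↥(twistedD4 K q)) (χ : IrrCharacter ↥(twistedD4 K q)),
      P.index = (q ^ 3 + 1) * (q ^ 8 + q ^ 4 + 1) ∧ P.index ∣ charDegree (χ : ↥(twistedD4 K q) → ℂ) ∧
      ∀ g, (∀ y, y⁻¹ * g * y ∉ P) → (χ : ↥(twistedD4 K q) → ℂ) g = 0 := by
  classical
  obtain ⟨p, hch⟩ := CharP.exists K
  have : Fact p.Prime := ⟨CharP.char_is_prime K p⟩
  obtain ⟨φ, hφ⟩ := D4Fixed.exists_frob hq hK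
  have hle := D4Fixed.twisted_le_fix hK hφ
  have : Finite CoxeterMatrix.G₂.Group := Nodes.RGDChev.finite_W Cfsg.Agent.BiChar.GTwo.isType cs
  have Rg := Nodes.RGDTwD4.rgd (K := K) cs hK hφ p
  -- an element of the torus
  obtain ⟨c, hc0, hc4⟩ : ∃ c : Fx φ ((Nodes.RGDTwNode.D4.rest 1).length + 1), c ≠ 0 ∧ c ^ 4 ≠ 1 := by
    have hfin : Finite (Fx φ ((Nodes.RGDTwNode.D4.rest 1).length + 1)) := inferInstance
    obtain ⟨g, hg⟩ := IsCyclic.exists_generator (α := (Fx φ ((Nodes.RGDTwNode.D4.rest 1).length + 1))ˣ)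
    have h1 : Nat.card (Fx φ ((Nodes.RGDTwNode.D4.rest 1).length + 1)) = Nat.card K :=
      Nat.card_congr (Equiv.subtypeUnivEquiv fun t => mem_Fx_three hK hφ t)
    have h2 : orderOf g = Nat.card K - 1 := by
      rw [orderOf_eq_card_of_forall_mem_zpowers hg, Nat.card_units, h1]
    refine ⟨g, g.ne_zero, fun h4 => ?_⟩
    have h5 : g ^ 4 = 1 := Units.ext (by rw [Units.val_pow_eq_pow_val, h4, Units.val_one])
    have h6 := Nat.le_of_dvd (by norm_num) (orderOf_dvd_of_pow_eq_one h5)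
    rw [h2, Nat.card_eq_fintype_card, hK] at h6
    have h7 : 2 ^ 3 ≤ q ^ 3 := Nat.pow_le_pow_left hq.two_le 3
    omega
  have hcc : c * c ≠ 0 := mul_ne_zero hc0 hc0
  obtain ⟨χ, h1, h2⟩ := exists_chi_G2_van Rg (GG_top hφ hK) T_comm (by decide)
    (by
      rw [card_X0 hφ hle hq.one_lt hK]
      exact hq.two_le) (a := Ph hφ hle 1 (hS c)) (Cfsg.Agent.BiChar.TwDFour.Ph_hS hφ hle 1 hc0)
    (by
      rw [← map_mul, hS_mul hc0 hc0]
      intro h1
      have h3 := free hφ hle hcc (by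
        have e : (c * c) ^ 2 = c ^ 4 := by ring
        rw [e]
        exact hc4) (t := 1) (by rw [h1, one_mul, mul_one])
      exact one_ne_zero h3)
    (by
      rw [← Cfsg.Agent.BiChar.TwDFour.Ph_wS hφ hle 1, ← map_inv, ← map_mul, ← map_mul, wS_hS hc0, map_inv])
    (by
      intro u hu
      have hu' : (u : GL chevD4.Idx K) ∈ R chevD4 Nodes.RGDTwD4.hp K Nodes.RGDTwD4.J (D4Fixed.sig φ) ![2, 3] :=
        Subgroup.mem_subgroupOf.1 hu
      rw [R_eq cls_hi (by decide +kernel)] at hu'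
      exact comm_hi hφ hle (s := 23) (by decide) hu'.1 (p := p) hK _)
    (by
      intro u hu
      have hu' : (u : GL chevD4.Idx K) ∈ R chevD4 Nodes.RGDTwD4.hp K Nodes.RGDTwD4.J (D4Fixed.sig φ) (-![2, 3]) :=
        Subgroup.mem_subgroupOf.1 hu
      rw [R_eq cls_hi' (by decide +kernel)] at hu'
      exact comm_hi hφ hle (s := 0) (by decide) hu'.1 (p := p) hK _)
  exact ⟨_, χ, index_eq' (p := p) hφ hle hq hK, h1, h2⟩

theorem finite_twD4 (q : ℕ) : Finite ↥(twistedD4 K q) := by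
  classical
  have : Finite (GL chevD4.Idx K) := by
    have : Finite (Matrix chevD4.Idx chevD4.Idx K) := inferInstance
    infer_instance
  infer_instance

open Cfsg.Agent.H35.PoinNum in
theorem kill3_3D4 (p : ℕ) [hp : Fact p.Prime] [CharP K p] (hq : IsPrimePow q) (hK : Fintype.card K = q ^ 3)
    (h3 : 3 ≤ q) : Kill3 (twistedD4 K q) p := by
  have := finite_twD4 (K := K) q
  obtain ⟨P, χ, hP, hχ, -⟩ := exists_chi_twD4 hq hK
  have hcard := Cfsg.Agent.S1067.result hq hK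
  obtain ⟨f, hf, hqf⟩ : ∃ f, f ≠ 0 ∧ q = p ^ f := by
    obtain ⟨p', k, hp', hk, e⟩ := hq
    obtain ⟨m, -, hm⟩ := FiniteField.card K p
    have h1 : p' = p := by
      have h2 : p' ∣ p ^ (m : ℕ) := by
        rw [← hm, hK, ← e]
        exact dvd_pow (dvd_pow_self p' hk.ne') (by norm_num)
      exact (Nat.prime_dvd_prime_iff_eq hp'.nat_prime hp.out).1 (hp'.nat_prime.dvd_of_dvd_pow h2)
    exact ⟨k, hk.ne', by rw [← e, h1]⟩
  refine kill3_num' (q := q) (d := 1) (b := f * 12) (e₁ := 12) (e₂ := 6) (dS := [2, 6, 12])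
    (dJ := [2, 3, 4]) (dD := [4]) hp.out (by omega) (by rw [hqf]; exact dvd_pow_self p hf) χ.2
    (Cfsg.Agent.Blocks.Basic.irr_one_eq_charDegree χ.2) hχ ?_ ?_ (one_dvd _) (by norm_num) (by norm_num)
    (by omega) (by omega) (by decide) (by decide) (by decide)
  · rw [hP]
    simp only [pr_cons, pr_nil]
    obtain ⟨m, hm⟩ := Nat.exists_eq_add_of_le (show 1 ≤ q by omega)
    rw [hm]
    have e2 : (1 + m) ^ 2 - 1 = m * (m + 2) := Nat.sub_eq_of_eq_add (by ring)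
    have e3 : (1 + m) ^ 3 - 1 = m * ((1 + m) ^ 2 + (1 + m) + 1) := Nat.sub_eq_of_eq_add (by ring)
    have e4 : (1 + m) ^ 4 - 1 = m * ((1 + m) ^ 3 + (1 + m) ^ 2 + (1 + m) + 1) := Nat.sub_eq_of_eq_add (by ring)
    have e6 : (1 + m) ^ 6 - 1 = m * ((1 + m) ^ 2 + (1 + m) + 1) * ((1 + m) ^ 3 + 1) := Nat.sub_eq_of_eq_add (by ring)
    have e12 : (1 + m) ^ 12 - 1 = m * ((1 + m) ^ 3 + (1 + m) ^ 2 + (1 + m) + 1) * ((1 + m) ^ 8 + (1 + m) ^ 4 + 1) :=
      Nat.sub_eq_of_eq_add (by ring)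
    rw [e2, e3, e4, e6, e12]
    ring
  · rw [pow_mul, ← hqf]
    simp only [pr_cons, pr_nil]
    rw [one_mul, hcard]
    obtain ⟨m, hm⟩ := Nat.exists_eq_add_of_le (show 1 ≤ q by omega)
    rw [hm]
    have e2 : (1 + m) ^ 2 - 1 = m * (m + 2) := Nat.sub_eq_of_eq_add (by ring)
    have e4 : (1 + m) ^ 4 - 1 = m * ((1 + m) ^ 3 + (1 + m) ^ 2 + (1 + m) + 1) := Nat.sub_eq_of_eq_add (by ring)
    have e6 : (1 + m) ^ 6 - 1 = m * ((1 + m) ^ 2 + (1 + m) + 1) * ((1 + m) ^ 3 + 1) := Nat.sub_eq_of_eq_add (by ring)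
    have e12 : (1 + m) ^ 12 - 1 = m * ((1 + m) ^ 3 + (1 + m) ^ 2 + (1 + m) + 1) * ((1 + m) ^ 8 + (1 + m) ^ 4 + 1) :=
      Nat.sub_eq_of_eq_add (by ring)
    rw [e2, e4, e6, e12]
    ring

/-! ### `³D₄(2)` -/

theorem exists_order_nine (hK : Fintype.card K = 2 ^ 3) : ∃ x : ↥(twistedD4 K 2), orderOf x = 9 := by
  classical
  have hq : IsPrimePow 2 := Nat.prime_two.isPrimePow
  obtain ⟨φ, hφ⟩ := D4Fixed.exists_frob hq hK
  have hle := D4Fixed.twisted_le_fix hK hφ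
  have hc : Nat.card (Fx φ ((Nodes.RGDTwNode.D4.rest 1).length + 1)) = 8 := by
    rw [Nat.card_congr (Equiv.subtypeUnivEquiv fun t => mem_Fx_three hK hφ t), Nat.card_eq_fintype_card, hK]
    norm_num
  have hfin : Finite (Fx φ ((Nodes.RGDTwNode.D4.rest 1).length + 1)) := inferInstance
  have := Fintype.ofFinite (Fx φ ((Nodes.RGDTwNode.D4.rest 1).length + 1))
  obtain ⟨a, ha⟩ := Cfsg.Agent.H710.SLTwo.exists_order_add_one (Fx φ ((Nodes.RGDTwNode.D4.rest 1).length + 1))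
  rw [← Nat.card_eq_fintype_card, hc] at ha
  have h2 : (2 : Fx φ ((Nodes.RGDTwNode.D4.rest 1).length + 1)) = 0 := by
    have h8 : ((8 : ℕ) : Fx φ ((Nodes.RGDTwNode.D4.rest 1).length + 1)) = 0 := by
      rw [← hc, Nat.card_eq_fintype_card]
      exact FiniteField.cast_card_eq_zero _
    have h9 : (2 : Fx φ ((Nodes.RGDTwNode.D4.rest 1).length + 1)) ^ 3 = 0 := by
      rw [← h8]
      norm_num
    exact pow_eq_zero_iff (by norm_num) |>.1 h9
  have hs := Cfsg.Agent.H320.Kill.simple_sl (F := Fx φ ((Nodes.RGDTwNode.D4.rest 1).length + 1)) h2 (by omega)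
  have hinj : Function.Injective (Ph hφ hle 1) := by
    rw [← MonoidHom.ker_eq_bot_iff]
    rcases hs.eq_bot_or_eq_top_of_normal (Ph hφ hle 1).ker inferInstance with h3 | h3
    · exact h3
    · exfalso
      have h4 : Ph hφ hle 1 (up 1) = Ph hφ hle 1 (up 0) := by
        have h5 : ∀ x, Ph hφ hle 1 x = 1 := fun x => by
          have : x ∈ (Ph hφ hle 1).ker := by rw [h3]; exact Subgroup.mem_top _
          exact this
        rw [h5, h5]
      exact one_ne_zero (up_inj hφ hle 1 h4)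
  refine ⟨Ph hφ hle 1 a, ?_⟩
  rw [orderOf_injective _ hinj, ha]

/-- **`³D₄(2)`**: an irreducible character vanishing at the elements of order `9` and at the elements of order
divisible by `13`. -/
theorem vz_3D4_two (hK : Fintype.card K = 2 ^ 3) :
    (∃ x y : ↥(twistedD4 K 2), orderOf x = 9 ∧ orderOf y = 13) ∧
    (∃ χ : IrrCharacter ↥(twistedD4 K 2), ∀ g, orderOf g = 9 ∨ 13 ∣ orderOf g →
      (χ : ↥(twistedD4 K 2) → ℂ) g = 0) := by
  have := finite_twD4 (K := K) 2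
  have hq : IsPrimePow 2 := Nat.prime_two.isPrimePow
  have hcard := Cfsg.Agent.S1067.result hq hK
  have hcard' : Nat.card ↥(twistedD4 K 2) = 211341312 := by rw [hcard]; norm_num
  obtain ⟨P, χ, hP, -, hχ⟩ := exists_chi_twD4 hq hK
  have hP' : Nat.card P = 86016 := by
    have h1 := P.index_mul_card
    rw [hP, hcard'] at h1
    norm_num at h1
    omega
  refine ⟨?_, χ, fun g hg => hχ g fun y hy => ?_⟩
  · obtain ⟨x, hx⟩ := exists_order_nine hK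
    have : Fact (Nat.Prime 13) := ⟨by norm_num⟩
    obtain ⟨y, hy⟩ := exists_prime_orderOf_dvd_card' (G := ↥(twistedD4 K 2)) 13 (by rw [hcard']; norm_num)
    exact ⟨x, y, hx, hy⟩
  · have h1 : orderOf (y⁻¹ * g * y) = orderOf g := by
      have h2 := (MulAut.conj y⁻¹).orderOf_eq g
      rw [MulAut.conj_apply, inv_inv] at h2
      exact h2
    have h3 : orderOf g ∣ 86016 := by
      rw [← h1, ← hP', ← Subgroup.orderOf_mk _ hy]
      exact orderOf_dvd_natCard _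
    rcases hg with hg | hg
    · rw [hg] at h3
      norm_num at h3
    · have h4 := hg.trans h3
      norm_num at h4

end TwD

end Cfsg.Agent.H515.KillExc
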