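import Mathlib
import Cfsg.Agent.H535.AHDefs

/-!
Pieces for S4162: in a finite solvable real group the Sylow 2-subgroups are self-normalizing.
-/

set_option autoImplicit false

universe u

open scoped commutatorElement

namespace Cfsg.Agent.H515.Ah

open Subgroup

/-- A nontrivial finite solvable group has a nontrivial normal elementary abelian subgroup. -/
theorem exists_normal_elab (G : Type*) [Group G] [Finite G] [Nontrivial G]
    (hs : Group.IsSolvable G) :
    ∃ (r : ℕ) (N : Subgroup G), r.Prime ∧ N.Normal ∧ N ≠ ⊥ ∧ (∀ a ∈ N, ∀ b ∈ N, a * b = b * a) ∧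
      ∀ a ∈ N, a ^ r = 1 := by
  classical
  obtain ⟨n, hn⟩ := (Group.isSolvable_def G).mp hs
  -- last nontrivial term
  have hex : ∃ k, derivedSeries G k ≠ ⊥ ∧ derivedSeries G (k + 1) = ⊥ := by
    have h0 : derivedSeries G 0 ≠ ⊥ := by
      rw [derivedSeries_zero]; exact top_ne_bot
    set m := Nat.find (⟨n, hn⟩ : ∃ n, derivedSeries G n = ⊥) with hm
    have hmspec : derivedSeries G m = ⊥ := Nat.find_spec (⟨n, hn⟩ : ∃ n, derivedSeries G n = ⊥)
    have hm0 : m ≠ 0 := by
      intro h; rw [h] at hmspec; exact h0 hmspec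
    refine ⟨m - 1, ?_, ?_⟩
    · exact Nat.find_min (⟨n, hn⟩ : ∃ n, derivedSeries G n = ⊥) (by omega)
    · have : m - 1 + 1 = m := by omega
      rw [this]; exact hmspec
  obtain ⟨k, hk1, hk2⟩ := hex
  set A := derivedSeries G k with hA
  have hAn : A.Normal := derivedSeries_normal G k
  have hAc : ∀ a ∈ A, ∀ b ∈ A, a * b = b * a := by
    intro a ha b hb
    have h1 : ⁅a, b⁆ ∈ derivedSeries G (k + 1) := by
      rw [derivedSeries_succ]
      exact Subgroup.commutator_mem_commutator ha hb
    rw [hk2, Subgroup.mem_bot] at h1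
    exact commutatorElement_eq_one_iff_mul_comm.mp h1
  have hAcard : Nat.card A ≠ 1 := by
    intro h
    exact hk1 (Subgroup.card_eq_one.mp h)
  obtain ⟨r, hr, hrd⟩ := Nat.exists_prime_and_dvd hAcard
  have : Fact r.Prime := ⟨hr⟩
  obtain ⟨x, hx⟩ := exists_prime_orderOf_dvd_card' (G := A) r hrd
  let N : Subgroup G :=
    { carrier := {a | a ∈ A ∧ a ^ r = 1}
      mul_mem' := by
        rintro a b ⟨ha, ha'⟩ ⟨hb, hb'⟩
        refine ⟨mul_mem ha hb, ?_⟩
        have : Commute a b := hAc a ha b hb
        rw [this.mul_pow, ha', hb', one_mul]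
      one_mem' := ⟨one_mem _, one_pow _⟩
      inv_mem' := by
        rintro a ⟨ha, ha'⟩
        exact ⟨inv_mem ha, by rw [inv_pow, ha', inv_one]⟩ }
  refine ⟨r, N, hr, ⟨?_⟩, ?_, ?_, ?_⟩
  · rintro a ⟨ha, ha'⟩ g
    exact ⟨hAn.conj_mem a ha g, by rw [conj_pow, ha', mul_one, mul_inv_cancel]⟩
  · intro h
    have h1 : (x : G) ∈ N := ⟨x.2, by rw [← hx, ← orderOf_coe, pow_orderOf_eq_one]⟩
    rw [h, Subgroup.mem_bot] at h1
    have h2 : x = 1 := by ext; exact h1
    rw [h2, orderOf_one] at hx
    exact hr.one_lt.ne hx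
  · rintro a ⟨ha, _⟩ b ⟨hb, _⟩
    exact hAc a ha b hb
  · rintro a ⟨_, ha⟩
    exact ha

/-- An element whose centralizer contains a Sylow 2-subgroup and is conjugate to its inverse satisfies
`n ^ 2 = 1`. -/
theorem sq_eq_one_of_real {G : Type*} [Group G] [Finite G] {n : G} (hn : IsConj n n⁻¹)
    (hodd : Odd (centralizer ({n} : Set G)).index) : n ^ 2 = 1 := by
  classical
  by_contra hne
  -- the conjugacy class of n has odd size, closed under inversion without fixed points
  have hcard : Nat.card (ConjClasses.mk n).carrier = (centralizer ({n} : Set G)).index := by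
    have h1 : (ConjClasses.mk n).carrier = MulAction.orbit (ConjAct G) n := by
      rw [ConjAct.orbit_eq_carrier_conjClasses]
    have h2 := MulAction.index_stabilizer (ConjAct G) n
    have h4 : (MulAction.stabilizer (ConjAct G) n).index =
        (Subgroup.centralizer ({n} : Set G)).index := by
      rw [Subgroup.centralizer_eq_comap_stabilizer]
      exact (Subgroup.index_comap_of_surjective _ (ConjAct.toConjAct (G := G)).surjective).symm
    rw [h1, ← h4, h2]
    rfl
  rw [← hcard] at hodd
  have hmem : ∀ y : G, y ∈ (ConjClasses.mk n).carrier ↔ IsConj n y := by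
    intro y
    rw [ConjClasses.mem_carrier_iff_mk_eq, ConjClasses.mk_eq_mk_iff_isConj, isConj_comm]
  have hinv : ∀ y ∈ (ConjClasses.mk n).carrier, y⁻¹ ∈ (ConjClasses.mk n).carrier := by
    intro y hy
    rw [hmem] at hy ⊢
    refine hn.trans ?_
    obtain ⟨c, hc⟩ := isConj_iff.mp hy
    refine isConj_iff.mpr ⟨c, ?_⟩
    rw [← hc]; group
  have hfin : Fintype (ConjClasses.mk n).carrier := Fintype.ofFinite _
  let f : (ConjClasses.mk n).carrier → (ConjClasses.mk n).carrier := fun y => ⟨(y : G)⁻¹, hinv y y.2⟩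
  have hf : Function.Involutive f := by
    intro y
    ext
    simp [f]
  have h3 : ∀ y, f y ≠ y := by
    intro y hy
    have h4 : (y : G)⁻¹ = y := congrArg Subtype.val hy
    have h5 : (y : G) ^ 2 = 1 := by
      rw [pow_two]; nth_rw 1 [← h4]; exact inv_mul_cancel _
    obtain ⟨c, hc⟩ := isConj_iff.mp ((hmem y).mp y.2)
    rw [← hc, conj_pow] at h5
    have h6 : n ^ 2 = c⁻¹ * (c * n ^ 2 * c⁻¹) * c := by group
    rw [h5] at h6
    apply hne
    rw [h6]; group
  have h7 : Even (Fintype.card (ConjClasses.mk n).carrier) := by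
    have h8 := Equiv.Perm.card_fixedPoints_modEq (p := 2) (n := 1) (f := f) (by
      funext y
      simp only [pow_one]
      show f (f y) = y
      exact hf y)
    have h9 : Fintype.card (Function.fixedPoints f) = 0 := by
      rw [Fintype.card_eq_zero_iff]
      exact ⟨fun y => h3 y y.2⟩
    rw [h9] at h8
    exact even_iff_two_dvd.mpr (Nat.modEq_zero_iff_dvd.mp h8)
  rw [Nat.card_eq_fintype_card] at hodd
  exact (Nat.not_even_iff_odd.mpr hodd) h7

theorem normalizer_sylow_two_aux (m : ℕ) : ∀ (G : Type u) [Group G] [Finite G], Nat.card G ≤ m →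
    Group.IsSolvable G → (∀ x : G, IsConj x x⁻¹) →
    ∀ S : Sylow 2 G, normalizer ((S : Subgroup G) : Set G) ≤ (S : Subgroup G) := by
  induction m with
  | zero =>
    intro G _ _ hc
    have := Nat.card_pos (α := G)
    omega
  | succ m ih =>
    intro G _ _ hc hs hreal S
    rcases subsingleton_or_nontrivial G with hsub | hnt
    · intro x _
      rw [Subsingleton.elim x 1]
      exact one_mem _
    obtain ⟨r, N, hr, hN, hN1, hNc, hNr⟩ := exists_normal_elab G hs
    have hr' : Fact r.Prime := ⟨hr⟩
    have h2' : Fact (Nat.Prime 2) := ⟨Nat.prime_two⟩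
    have hNp : IsPGroup r N := by
      intro a
      refine ⟨1, ?_⟩
      ext
      simpa using hNr a a.2
    -- quotient
    have hcq : Nat.card (G ⧸ N) ≤ m := by
      have h1 : Nat.card G = Nat.card (G ⧸ N) * Nat.card N := Subgroup.card_eq_card_quotient_mul_card_subgroup N
      have h2 : 1 < Nat.card N := (Subgroup.one_lt_card_iff_ne_bot N).mpr hN1
      have h3 := Nat.card_pos (α := G ⧸ N)
      nlinarith
    have hsq : Group.IsSolvable (G ⧸ N) := Group.isSolvable_of_surjective (QuotientGroup.mk'_surjective N)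
    have hrq : ∀ x : G ⧸ N, IsConj x x⁻¹ := by
      intro x
      obtain ⟨g, rfl⟩ := QuotientGroup.mk'_surjective N x
      have := (QuotientGroup.mk' N).map_isConj (hreal g)
      simpa using this
    have hf := QuotientGroup.mk'_surjective N
    have key := ih (G ⧸ N) hcq hsq hrq (S.mapSurjective hf)
    intro g hg
    have hg1 : QuotientGroup.mk' N g ∈ normalizer (((S.mapSurjective hf : Sylow 2 (G ⧸ N)) : Subgroup (G ⧸ N)) : Set (G ⧸ N)) := by
      rw [Subgroup.mem_normalizer_iff'']
      have hg' := hg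
      rw [Subgroup.mem_normalizer_iff''] at hg'
      intro y
      rw [Sylow.coe_mapSurjective]
      constructor
      · rintro ⟨s, hs', rfl⟩
        exact ⟨g⁻¹ * s * g, (hg' s).mp hs', by simp⟩
      · rintro ⟨s, hs', hsy⟩
        refine ⟨g * s * g⁻¹, ?_, ?_⟩
        · apply (hg' _).mpr
          have : g⁻¹ * (g * s * g⁻¹) * g = s := by group
          rw [this]; exact hs'
        · rw [map_mul, map_mul, hsy, map_inv]; group
    have hg2 := key hg1
    rw [Sylow.coe_mapSurjective] at hg2
    obtain ⟨s, hsS, hsg⟩ := hg2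
    have hn : s⁻¹ * g ∈ N := by
      rw [← QuotientGroup.eq]
      exact hsg
    set n := s⁻¹ * g with hndef
    have hnn : n ∈ normalizer ((S : Subgroup G) : Set G) :=
      mul_mem (inv_mem (Subgroup.le_normalizer hsS)) hg
    have hgn : g = s * n := by rw [hndef]; group
    suffices hnS : n ∈ (S : Subgroup G) by
      rw [hgn]; exact mul_mem hsS hnS
    by_cases hr2 : r = 2
    · subst hr2
      have h1 := hNp.inf_normalizer_sylow S
      have h2 : n ∈ N ⊓ normalizer (S : Set G) := ⟨hn, hnn⟩
      rw [h1] at h2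
      exact h2.2
    · -- `n` centralizes `S`
      have hdisj : ∀ y, y ∈ N → y ∈ (S : Subgroup G) → y = 1 := by
        intro y hy1 hy2
        have h1 : orderOf y ∣ r := orderOf_dvd_of_pow_eq_one (hNr y hy1)
        obtain ⟨k, hk⟩ := (S.isPGroup' ⟨y, hy2⟩)
        have h2 : orderOf y ∣ 2 ^ k := orderOf_dvd_of_pow_eq_one (by
          have := congrArg Subtype.val hk
          simpa using this)
        have h3 : Nat.Coprime r (2 ^ k) :=
          Nat.Coprime.pow_right k ((Nat.coprime_primes hr Nat.prime_two).mpr hr2)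
        have h4 := Nat.dvd_gcd h1 h2
        rw [h3] at h4
        exact orderOf_eq_one_iff.mp (Nat.dvd_one.mp h4)
      have hcent : (S : Subgroup G) ≤ centralizer ({n} : Set G) := by
        intro t ht
        rw [mem_centralizer_singleton_iff]
        have h1 : t * n * t⁻¹ * n⁻¹ ∈ N := mul_mem (hN.conj_mem n hn t) (inv_mem hn)
        have h2 : t * n * t⁻¹ * n⁻¹ ∈ (S : Subgroup G) := by
          have : t * n * t⁻¹ * n⁻¹ = t * (n * t⁻¹ * n⁻¹) := by group
          rw [this]
          refine mul_mem ht ?_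
          exact (Subgroup.mem_normalizer_iff.mp hnn _).mp (inv_mem ht)
        have h3 := hdisj _ h1 h2
        have h4 : t * n = (t * n * t⁻¹ * n⁻¹) * (n * t) := by group
        rw [h4, h3, one_mul]
      have hidx : Odd (centralizer ({n} : Set G)).index := by
        have h1 : (centralizer ({n} : Set G)).index ∣ (S : Subgroup G).index :=
          Subgroup.index_dvd_of_le hcent
        have h2 : ¬ 2 ∣ (S : Subgroup G).index := S.not_dvd_index
        rw [← Nat.not_even_iff_odd, even_iff_two_dvd]
        exact fun h => h2 (h.trans h1)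
      have h5 := sq_eq_one_of_real (hreal n) hidx
      have h6 := hNr n hn
      have h7 : orderOf n ∣ 2 := orderOf_dvd_of_pow_eq_one h5
      have h8 : orderOf n ∣ r := orderOf_dvd_of_pow_eq_one h6
      have h9 : Nat.Coprime r 2 := (Nat.coprime_primes hr Nat.prime_two).mpr hr2
      have h10 := Nat.dvd_gcd h8 h7
      rw [h9] at h10
      rw [orderOf_eq_one_iff.mp (Nat.dvd_one.mp h10)]
      exact one_mem _

/-- `(N)`: in a finite solvable group all of whose elements are real, the Sylow 2-subgroups are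
self-normalizing. -/
theorem normalizer_sylow_two {G : Type*} [Group G] [Finite G] (hs : Group.IsSolvable G)
    (h : ∀ x : G, IsConj x x⁻¹) (S : Sylow 2 G) :
    normalizer ((S : Subgroup G) : Set G) = (S : Subgroup G) :=
  le_antisymm (normalizer_sylow_two_aux _ G le_rfl hs h S) Subgroup.le_normalizer

/-- Frattini: if the Sylow 2-subgroup `S` of `G` is self-normalizing, there is no proper overgroup `H` of a
subgroup `K` containing `S` in which `K` is normal. -/
theorem le_of_sylow_self_normalizing {G : Type*} [Group G] [Finite G] {p : ℕ} [Fact p.Prime] (S : Sylow p G)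
    (hN : normalizer ((S : Subgroup G) : Set G) ≤ (S : Subgroup G)) {H K : Subgroup G}
    (hSK : (S : Subgroup G) ≤ K) (hnorm : ∀ h ∈ H, ∀ k ∈ K, h * k * h⁻¹ ∈ K) : H ≤ K := by
  intro h hh
  have h1 : ((h • S : Sylow p G) : Subgroup G) ≤ K := by
    rw [Sylow.coe_subgroup_smul]
    rintro _ ⟨s, hs, rfl⟩
    exact hnorm h hh s (hSK hs)
  obtain ⟨k, hk⟩ := MulAction.exists_smul_eq K ((h • S).subtype h1) (S.subtype hSK)
  have h2 : (k : G) • (h • S) = S := by
    rw [Sylow.smul_subtype] at hk
    exact Sylow.subtype_injective hk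
  rw [← mul_smul, Sylow.smul_eq_iff_mem_normalizer] at h2
  have h3 : (k : G) * h ∈ K := hSK (hN h2)
  have h4 := mul_mem (inv_mem k.2) h3
  simpa using h4

end Cfsg.Agent.H515.Ah
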