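import Mathlib
import Cfsg.Agent.H535.AHDefs

/-!
Pieces for S4162: rational groups with an element whose centralizer has order 3.
-/

set_option autoImplicit false

namespace Cfsg.Agent.H515.Ah

open Cfsg.Agent.AH Subgroup

variable {G : Type*} [Group G] [Finite G]

omit [Finite G] in
theorem mem_cent_self (x : G) : x ∈ centralizer ({x} : Set G) :=
  mem_centralizer_singleton_iff.mpr rfl

/-- In a rational group an element with a centralizer of order 3 has order 3. -/
theorem orderOf_of_three (h : IsRat G) {x : G} (hx : cent x = 3) : orderOf x = 3 := by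
  have ho : orderOf x ∣ 3 := by
    have := Subgroup.orderOf_dvd_natCard (centralizer ({x} : Set G)) (mem_cent_self x)
    unfold cent at hx
    rwa [hx] at this
  rcases (Nat.dvd_prime Nat.prime_three).mp ho with h1 | h3
  · exfalso
    rw [orderOf_eq_one_iff] at h1
    subst h1
    have hc : Nat.card G = 3 := by
      rw [← hx]
      unfold cent
      have : centralizer ({1} : Set G) = ⊤ := by
        rw [eq_top_iff]
        intro z _
        rw [mem_centralizer_singleton_iff]; simp
      rw [this]
      exact (Nat.card_congr Subgroup.topEquiv.toEquiv).symm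
    have : Fact (Nat.Prime 3) := ⟨Nat.prime_three⟩
    obtain ⟨g, hg⟩ := exists_prime_orderOf_dvd_card' (G := G) 3 (by rw [hc])
    have hcyc : IsCyclic G := isCyclic_of_prime_card hc
    obtain ⟨c, hc⟩ := isConj_iff.mp (h.inv g)
    have hcomm : c * g = g * c := by
      have := IsCyclic.commGroup (α := G)
      exact (IsMulCommutative.is_comm (M := G)).comm c g
    rw [hcomm, mul_inv_cancel_right] at hc
    have h2 : g ^ 2 = 1 := by
      rw [pow_two]; nth_rw 2 [hc]; exact mul_inv_cancel g
    have := orderOf_dvd_of_pow_eq_one h2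
    rw [hg] at this
    omega
  · exact h3

theorem centralizer_of_three (h : IsRat G) {x : G} (hx : cent x = 3) :
    centralizer ({x} : Set G) = zpowers x := by
  symm
  apply Subgroup.eq_of_le_of_card_ge
  · rw [zpowers_le]; exact mem_cent_self x
  · unfold cent at hx
    rw [hx, Nat.card_zpowers, orderOf_of_three h hx]

/-- The Sylow 3-subgroups have order 3. -/
theorem card_sylow_three (h : IsRat G) {x : G} (hx : cent x = 3) (P : Sylow 3 G) :
    Nat.card P = 3 := by
  have : Fact (Nat.Prime 3) := ⟨Nat.prime_three⟩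
  have ho := orderOf_of_three h hx
  have hP3 : IsPGroup 3 (zpowers x) :=
    IsPGroup.of_card (n := 1) (by rw [Nat.card_zpowers, ho]; norm_num)
  obtain ⟨Q, hQ⟩ := hP3.exists_le_sylow
  have hcard : Nat.card P = Nat.card Q := Nat.card_congr (P.equiv Q).toEquiv
  rw [hcard]
  have hnt : Nontrivial Q := by
    refine ⟨⟨⟨x, hQ (mem_zpowers x)⟩, 1, ?_⟩⟩
    intro hh
    have : x = 1 := congrArg Subtype.val hh
    rw [this, orderOf_one] at ho
    omega
  have hcn : Nontrivial (Subgroup.center Q) := Q.isPGroup'.center_nontrivial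
  obtain ⟨z, hz1⟩ := exists_ne (1 : Subgroup.center Q)
  have hzx : (z : Q).1 ∈ centralizer ({x} : Set G) := by
    rw [mem_centralizer_singleton_iff]
    have := (Subgroup.mem_center_iff.mp z.2) ⟨x, hQ (mem_zpowers x)⟩
    have := congrArg Subtype.val this
    exact this.symm
  rw [centralizer_of_three h hx] at hzx
  have hz1' : (z : Q).1 ≠ 1 := by
    intro hh
    apply hz1
    ext
    exact hh
  have hzz : zpowers (z : Q).1 = zpowers x := by
    apply Subgroup.eq_of_le_of_card_ge
    · rw [zpowers_le]; exact hzx
    · rw [Nat.card_zpowers, Nat.card_zpowers, ho]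
      have h1 : orderOf (z : Q).1 ∣ 3 := by
        have h0 := Subgroup.orderOf_dvd_natCard _ hzx
        rwa [Nat.card_zpowers, ho] at h0
      rcases (Nat.dvd_prime Nat.prime_three).mp h1 with h1 | h1
      · exact absurd (orderOf_eq_one_iff.mp h1) hz1'
      · omega
  have hle : (Q : Subgroup G) ≤ centralizer ({x} : Set G) := by
    intro q hq
    rw [mem_centralizer_singleton_iff]
    have hx' : x ∈ zpowers (z : Q).1 := by rw [hzz]; exact mem_zpowers x
    obtain ⟨k, hk⟩ := mem_zpowers_iff.mp hx'
    have hqz : Commute q (z : Q).1 := by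
      have := (Subgroup.mem_center_iff.mp z.2) ⟨q, hq⟩
      exact congrArg Subtype.val this
    rw [← hk]
    exact hqz.zpow_right k
  rw [centralizer_of_three h hx] at hle
  have heq : (Q : Subgroup G) = zpowers x := le_antisymm hle hQ
  show Nat.card (Q : Subgroup G) = 3
  rw [heq, Nat.card_zpowers, ho]

theorem isConj_of_mem_zpowers_three (h : IsRat G) {x g : G} (ho : orderOf x = 3)
    (hg : g ∈ zpowers x) : g = 1 ∨ IsConj g x := by
  classical
  rw [mem_zpowers_iff_mem_range_orderOf] at hg
  rw [ho] at hg
  simp only [Finset.mem_image, Finset.mem_range] at hg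
  obtain ⟨k, hk, rfl⟩ := hg
  interval_cases k
  · left; simp
  · right; rw [pow_one]
  · right
    exact (h x 2 (by rw [ho]; norm_num)).symm

/-- `(C3)`: in a rational group with `|C(x)| = 3`, every element whose centralizer has order divisible
by 3 is trivial or conjugate to `x`. -/
theorem c3 (h : IsRat G) {x : G} (hx : cent x = 3) (g : G) (hg : 3 ∣ cent g) :
    g = 1 ∨ IsConj g x := by
  have : Fact (Nat.Prime 3) := ⟨Nat.prime_three⟩
  have ho := orderOf_of_three h hx
  obtain ⟨y, hy⟩ := exists_prime_orderOf_dvd_card' (G := centralizer ({g} : Set G)) 3 hg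
  have hy' : orderOf (y : G) = 3 := by rw [orderOf_coe, hy]
  have hyP : IsPGroup 3 (zpowers (y : G)) :=
    IsPGroup.of_card (n := 1) (by rw [Nat.card_zpowers, hy']; norm_num)
  have hxP : IsPGroup 3 (zpowers x) :=
    IsPGroup.of_card (n := 1) (by rw [Nat.card_zpowers, ho]; norm_num)
  obtain ⟨P, hP⟩ := hxP.exists_le_sylow
  obtain ⟨Q, hQ⟩ := hyP.exists_le_sylow
  have hPe : zpowers x = (P : Subgroup G) := by
    apply Subgroup.eq_of_le_of_card_ge hP
    rw [Nat.card_zpowers, ho]
    exact (card_sylow_three h hx P).le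
  obtain ⟨c, hc⟩ := MulAction.exists_smul_eq G Q P
  have hcy : c * (y : G) * c⁻¹ ∈ zpowers x := by
    rw [hPe, ← hc, Sylow.coe_subgroup_smul]
    have : c * (y : G) * c⁻¹ = MulAut.conj c • (y : G) := rfl
    rw [this]
    exact Subgroup.smul_mem_pointwise_smul _ _ _ (hQ (mem_zpowers _))
  have hyx : IsConj (y : G) x := by
    have h1 : IsConj (y : G) (c * (y : G) * c⁻¹) := isConj_iff.mpr ⟨c, rfl⟩
    rcases isConj_of_mem_zpowers_three h ho hcy with h2 | h2
    · exfalso
      have : (y : G) = 1 := by
        have := congrArg (fun t => c⁻¹ * t * c) h2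
        simpa [mul_assoc] using this
      rw [this, orderOf_one] at hy'
      omega
    · exact h1.trans h2
  have hcy3 : cent (y : G) = 3 := by rw [cent_conj_eq hyx, hx]
  have hgy : g ∈ centralizer ({(y : G)} : Set G) := by
    have := y.2
    rw [mem_centralizer_singleton_iff] at this ⊢
    exact this.symm
  rw [centralizer_of_three h hcy3] at hgy
  rcases isConj_of_mem_zpowers_three h hy' hgy with h1 | h1
  · exact Or.inl h1
  · exact Or.inr (h1.trans hyx)

end Cfsg.Agent.H515.Ah
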