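import Mathlib
import Cfsg.Agent.H535.AHDefs
import Cfsg.Agent.H515.AhNorm
import Cfsg.Agent.H515.AhThree
import Cfsg.Agent.S0112
import Cfsg.Agent.S0113

/-!
Pieces for S4162: in a rational group with an element whose centralizer has order 4, the Sylow
2-subgroups have order at most 8.
-/

set_option autoImplicit false

namespace Cfsg.Agent.H515.Ah

open Cfsg.Agent.AH Subgroup

variable {G : Type*} [Group G] [Finite G]

/-- In a rational group, the order of `N_G(<a>)` is `|C_G(a)| * φ(|a|)`. -/
theorem card_normalizer_zpowers (h : IsRat G) (a : G) :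
    Nat.card (normalizer ((zpowers a : Subgroup G) : Set G)) = cent a * (orderOf a).totient := by
  classical
  set H : Subgroup G := zpowers a with hH
  have hcyc : IsCyclic H := inferInstance
  have haH : a ∈ H := mem_zpowers a
  have hsurj : Function.Surjective H.normalizerMonoidHom := by
    intro f
    -- f a = a ^ j
    have h1 : ((f ⟨a, haH⟩ : H) : G) ∈ zpowers a := (f ⟨a, haH⟩).2
    rw [mem_zpowers_iff_mem_range_orderOf] at h1
    simp only [Finset.mem_image, Finset.mem_range] at h1
    obtain ⟨j, hj, hja⟩ := h1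
    have hord : orderOf (a ^ j) = orderOf a := by
      rw [hja, orderOf_coe]
      have : orderOf (f ⟨a, haH⟩) = orderOf (⟨a, haH⟩ : H) :=
        orderOf_injective f.toMonoidHom f.injective _
      rw [this, ← orderOf_coe]
    have hcop : j.Coprime (orderOf a) := by
      rw [orderOf_pow] at hord
      rcases Nat.div_eq_self.mp hord with h2 | h2
      · exact absurd h2 (orderOf_pos a).ne'
      · rw [Nat.coprime_comm]; exact h2
    obtain ⟨g, hg⟩ := isConj_iff.mp (h a j hcop)
    have hgn : g ∈ normalizer (H : Set G) := by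
      rw [Subgroup.mem_normalizer_iff]
      have hle : ∀ y ∈ H, g * y * g⁻¹ ∈ H := by
        intro y hy
        obtain ⟨k, rfl⟩ := mem_zpowers_iff.mp hy
        rw [← conj_zpow, hg]
        exact zpow_mem (pow_mem haH j) k
      intro y
      refine ⟨hle y, fun hy => ?_⟩
      have hmap : H.map (MulAut.conj g).toMonoidHom = H := by
        apply Subgroup.eq_of_le_of_card_ge
        · rintro _ ⟨z, hz, rfl⟩
          exact hle z hz
        · rw [Subgroup.card_map_of_injective (MulAut.conj g).injective]
      rw [← hmap] at hy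
      obtain ⟨z, hz, hzy⟩ := hy
      have : z = y := by
        have h3 : g * z * g⁻¹ = g * y * g⁻¹ := hzy
        simpa using h3
      rw [← this]; exact hz
    refine ⟨⟨g, hgn⟩, ?_⟩
    ext ⟨y, hy⟩
    obtain ⟨k, rfl⟩ := mem_zpowers_iff.mp hy
    have h4 : (⟨a ^ k, hy⟩ : H) = (⟨a, haH⟩ : H) ^ k := by ext; simp
    rw [h4, map_zpow, map_zpow]
    congr 1
    congr 1
    ext
    rw [← hja]
    exact hg
  have h1 := Subgroup.card_eq_card_quotient_mul_card_subgroup (H.normalizerMonoidHom).ker
  have h2 : Nat.card (normalizer (H : Set G) ⧸ (H.normalizerMonoidHom).ker) = (orderOf a).totient := by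
    rw [Nat.card_congr (QuotientGroup.quotientKerEquivOfSurjective _ hsurj).toEquiv,
      IsCyclic.card_mulAut H, hH, Nat.card_zpowers]
  have hcH : centralizer (H : Set G) = centralizer ({a} : Set G) := by
    apply le_antisymm
    · exact Subgroup.centralizer_le (by intro y hy; rw [Set.mem_singleton_iff.mp hy]; exact haH)
    · intro z hz
      rw [mem_centralizer_iff]
      intro y hy
      obtain ⟨k, rfl⟩ := mem_zpowers_iff.mp hy
      have : Commute z a := mem_centralizer_singleton_iff.mp hz
      exact (this.zpow_right k).symm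
  have h3 : Nat.card (H.normalizerMonoidHom).ker = cent a := by
    rw [normalizerMonoidHom_ker]
    unfold cent
    rw [← hcH]
    exact Nat.card_congr (Subgroup.subgroupOfEquivOfLe
      (Subgroup.centralizer_le_normalizer (H : Set G))).toEquiv
  rw [h1, h2, h3, mul_comm]

/-- A 2-group with an element whose centralizer has order 4 has order at most 4 or a cyclic subgroup of
index 2. -/
theorem exists_cyclic_of_cent_four {S : Type*} [Group S] [Finite S] {n : ℕ}
    (hS : Nat.card S = 2 ^ n) (hn : 3 ≤ n) (A : Subgroup S) (hA : Nat.card A = 4)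
    (hC : centralizer (A : Set S) = A) : ∃ C : Subgroup S, IsCyclic C ∧ C.index = 2 := by
  have : Fact (Nat.Prime 2) := ⟨Nat.prime_two⟩
  have h1 := Cfsg.Agent.S0112.result (p := 2) n hS A (by rw [hA]; norm_num) hC
  exact Cfsg.Agent.S0113.result n hn hS h1

/-- `(C4)`: in a rational group with an element whose centralizer has order 4, the Sylow 2-subgroups have
order at most 8. -/
theorem c4 (h : IsRat G) {x : G} (hx : cent x = 4) (S : Sylow 2 G) : Nat.card S ≤ 8 := by
  classical
  have h2 : Fact (Nat.Prime 2) := ⟨Nat.prime_two⟩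
  obtain ⟨n, hn⟩ := IsPGroup.iff_card.mp S.isPGroup'
  by_contra hgt
  have hgt' : 8 < Nat.card S := not_le.mp hgt
  have hn4 : 4 ≤ n := by
    by_contra h4
    have : n ≤ 3 := by omega
    have h5 : 2 ^ n ≤ 2 ^ 3 := Nat.pow_le_pow_right (by norm_num) this
    have h6 : Nat.card S = 2 ^ n := hn
    omega
  -- the centralizer `A` of `x`, a 2-group of order 4
  set A : Subgroup G := centralizer ({x} : Set G) with hAdef
  have hAcard : Nat.card A = 4 := hx
  have hAp : IsPGroup 2 A := IsPGroup.of_card (n := 2) (by rw [hAcard]; norm_num)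
  obtain ⟨T, hT⟩ := hAp.exists_le_sylow
  have hTcard : Nat.card T = 2 ^ n := by
    rw [Nat.card_congr (T.equiv S).toEquiv]; exact hn
  have hxT : x ∈ (T : Subgroup G) := hT (mem_cent_self x)
  have hcomm : IsMulCommutative A := by
    exact IsPGroup.isMulCommutative_of_card_eq_prime_sq (p := 2) (G := A) (by rw [hAcard]; norm_num)
  let A' : Subgroup T := A.subgroupOf (T : Subgroup G)
  have hA' : Nat.card A' = 4 := by
    rw [← hAcard]
    exact Nat.card_congr (Subgroup.subgroupOfEquivOfLe hT).toEquiv
  have hCA' : centralizer (A' : Set T) = A' := by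
    apply le_antisymm
    · intro z hz
      rw [Subgroup.mem_subgroupOf, hAdef, mem_centralizer_singleton_iff]
      have h3 := (mem_centralizer_iff.mp hz) ⟨x, hxT⟩ (by
        show (⟨x, hxT⟩ : T) ∈ A'
        rw [Subgroup.mem_subgroupOf]
        exact mem_cent_self x)
      exact (congrArg Subtype.val h3).symm
    · intro z hz
      rw [mem_centralizer_iff]
      intro y hy
      have hy' : (y : G) ∈ A := Subgroup.mem_subgroupOf.mp hy
      have hz' : (z : G) ∈ A := Subgroup.mem_subgroupOf.mp hz
      have h3 := hcomm.is_comm.comm (⟨y, hy'⟩ : A) ⟨z, hz'⟩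
      have h4 : (y : G) * (z : G) = (z : G) * (y : G) := congrArg (fun t : A => (t : G)) h3
      exact Subtype.ext h4
  obtain ⟨C, hC1, hC2⟩ := exists_cyclic_of_cent_four hTcard (by omega) A' hA' hCA'
  obtain ⟨c, hc⟩ := hC1.exists_generator
  have hCcard : Nat.card C = 2 ^ (n - 1) := by
    have h3 := C.index_mul_card
    rw [hC2, hTcard] at h3
    have h4 : 2 ^ n = 2 * 2 ^ (n - 1) := by
      rw [← pow_succ']; congr 1; omega
    rw [h4] at h3
    exact Nat.eq_of_mul_eq_mul_left (by norm_num) h3
  set a : G := ((c : T) : G) with ha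
  have hoa : orderOf a = 2 ^ (n - 1) := by
    rw [ha, orderOf_coe, orderOf_coe, ← hCcard]
    exact orderOf_eq_card_of_forall_mem_zpowers hc
  have hN := card_normalizer_zpowers h a
  have hd1 : 2 ^ (n - 1) ∣ cent a := by
    have := Subgroup.orderOf_dvd_natCard (centralizer ({a} : Set G)) (mem_cent_self a)
    rwa [hoa] at this
  have hd2 : (orderOf a).totient = 2 ^ (n - 2) := by
    rw [hoa, Nat.totient_prime_pow Nat.prime_two (by omega)]
    have : n - 1 - 1 = n - 2 := by omega
    rw [this]; norm_num
  have hd3 : 2 ^ (n - 1) * 2 ^ (n - 2) ∣ Nat.card G := by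
    calc 2 ^ (n - 1) * 2 ^ (n - 2) ∣ cent a * (orderOf a).totient := by
          rw [hd2]; exact Nat.mul_dvd_mul_right hd1 _
      _ = _ := hN.symm
      _ ∣ Nat.card G := Subgroup.card_subgroup_dvd_card _
  rw [← pow_add] at hd3
  have hd4 : 2 ^ (n - 1 + (n - 2)) ∣ 2 ^ n := by
    have h5 : Nat.card T = 2 ^ (Nat.card G).factorization 2 := T.card_eq_multiplicity
    have h6 := (Nat.Prime.pow_dvd_iff_le_factorization Nat.prime_two (Nat.card_pos (α := G)).ne').mp hd3
    rw [← hTcard, h5]
    exact Nat.pow_dvd_pow 2 h6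
  have := (Nat.pow_dvd_pow_iff_le_right (by norm_num : 1 < 2)).mp hd4
  omega

end Cfsg.Agent.H515.Ah
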