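import Mathlib
import Cfsg.Agent.H535.AHDefs
import Cfsg.Agent.H515.AhFour

/-!
Pieces for S4162: the Frattini step excluding `|M| = 24`.
-/

set_option autoImplicit false

namespace Cfsg.Agent.H515.Ah

open Cfsg.Agent.AH Subgroup

/-- `(C4)`, as used: a rational group with an element whose centralizer has order 4 has order not
divisible by 16. -/
theorem h16 {G : Type*} [Group G] [Finite G] (h : IsRat G) {x : G} (hx : cent x = 4) :
    ¬ 16 ∣ Nat.card G := by
  intro hd
  have : Fact (Nat.Prime 2) := ⟨Nat.prime_two⟩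
  obtain ⟨S⟩ : Nonempty (Sylow 2 G) := inferInstance
  have h1 := c4 h hx S
  have h2 : 16 ∣ Nat.card S := by
    rw [S.card_eq_multiplicity]
    have h3 : 2 ^ 4 ∣ Nat.card G := by norm_num; exact hd
    have h4 := (Nat.Prime.pow_dvd_iff_le_factorization Nat.prime_two (Nat.card_pos (α := G)).ne').mp h3
    exact (by norm_num : 16 = 2 ^ 4) ▸ Nat.pow_dvd_pow 2 h4
  have h5 := Nat.le_of_dvd Nat.card_pos h2
  omega

/-- `(C3)`, as used. -/
theorem h3 {G : Type*} [Group G] [Finite G] (h : IsRat G) :
    ∀ x : G, cent x = 3 → ∀ g : G, 3 ∣ cent g → g = 1 ∨ IsConj g x :=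
  fun _ hx g hg => c3 h hx g hg

/-- A group `N` with a normal subgroup `K` of index 3; the order of `K` is `8 * odd`: the number 3 divides
the order of the normalizer of a Sylow 2-subgroup. -/
theorem frattini_three {G : Type*} [Group G] [Finite G] (N : Subgroup G) (K : Subgroup N) [K.Normal]
    (hK : K.index = 3) (h8 : 8 ∣ Nat.card K) (h16 : ¬ 16 ∣ Nat.card G) :
    ∃ S : Sylow 2 G, 3 ∣ Nat.card (normalizer ((S : Subgroup G) : Set G)) := by
  classical
  have : Fact (Nat.Prime 2) := ⟨Nat.prime_two⟩
  obtain ⟨P⟩ : Nonempty (Sylow 2 K) := inferInstance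
  have hfr := Sylow.normalizer_sup_eq_top P
  set P' : Subgroup N := (P : Subgroup K).map K.subtype with hP'
  set S0 : Subgroup G := P'.map N.subtype with hS0
  -- card of P
  have hcP : Nat.card P = 8 := by
    obtain ⟨k, hk⟩ := IsPGroup.iff_card.mp P.isPGroup'
    have h1 : 8 ∣ Nat.card P := by
      rw [P.card_eq_multiplicity]
      have h3 : 2 ^ 3 ∣ Nat.card K := by norm_num; exact h8
      have h4 := (Nat.Prime.pow_dvd_iff_le_factorization Nat.prime_two
        (Nat.card_pos (α := K)).ne').mp h3
      exact (by norm_num : 8 = 2 ^ 3) ▸ Nat.pow_dvd_pow 2 h4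
    have h2 : Nat.card P ∣ Nat.card G := by
      calc Nat.card P ∣ Nat.card K := Subgroup.card_subgroup_dvd_card _
        _ ∣ Nat.card N := Subgroup.card_subgroup_dvd_card _
        _ ∣ Nat.card G := Subgroup.card_subgroup_dvd_card _
    have h3 : k < 4 := by
      by_contra hk4
      apply h16
      refine Dvd.dvd.trans ?_ h2
      rw [hk, (by norm_num : 16 = 2 ^ 4)]
      exact Nat.pow_dvd_pow 2 (by omega)
    have h4 : ¬ k < 3 := by
      intro hk3
      rw [hk] at h1
      have := Nat.le_of_dvd (by positivity) h1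
      have h5 : 2 ^ k < 2 ^ 3 := Nat.pow_lt_pow_right (by norm_num) hk3
      omega
    have h5 : k = 3 := by omega
    rw [hk, h5]; norm_num
  have hcP' : Nat.card P' = 8 := by
    rw [hP', Subgroup.card_map_of_injective K.subtype_injective]; exact hcP
  have hcS0 : Nat.card S0 = 8 := by
    rw [hS0, Subgroup.card_map_of_injective N.subtype_injective]; exact hcP'
  have h8G : (Nat.card G).factorization 2 = 3 := by
    have h1 : 2 ^ 3 ∣ Nat.card G := by
      have := Subgroup.card_subgroup_dvd_card S0
      rw [hcS0] at this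
      norm_num; exact this
    have h2 := (Nat.Prime.pow_dvd_iff_le_factorization Nat.prime_two
      (Nat.card_pos (α := G)).ne').mp h1
    by_contra hne
    have h3 : 4 ≤ (Nat.card G).factorization 2 := by omega
    have h4 := (Nat.Prime.pow_dvd_iff_le_factorization Nat.prime_two
      (Nat.card_pos (α := G)).ne').mpr h3
    exact h16 (by norm_num at h4; exact h4)
  let S : Sylow 2 G := Sylow.ofCard S0 (by rw [hcS0, h8G]; norm_num)
  refine ⟨S, ?_⟩
  have hS : ((S : Sylow 2 G) : Subgroup G) = S0 := rfl
  rw [hS]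
  -- normalizer of P' in N maps into the normalizer of S0
  have h1 : 3 ∣ Nat.card (normalizer (P' : Set N)) := by
    have h2 : K.relIndex (normalizer (P' : Set N) ⊔ K) = K.relIndex (normalizer (P' : Set N)) :=
      Subgroup.relIndex_sup_right _ _
    rw [hfr, Subgroup.relIndex_top_right, hK] at h2
    rw [h2]
    exact Subgroup.relIndex_dvd_card _ _
  have h2 : (normalizer (P' : Set N)).map N.subtype ≤ normalizer (S0 : Set G) := by
    rintro _ ⟨n, hn, rfl⟩
    rw [Subgroup.mem_normalizer_iff]
    have hn' := Subgroup.mem_normalizer_iff.mp hn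
    intro y
    constructor
    · rintro ⟨s, hs, rfl⟩
      exact ⟨n * s * n⁻¹, (hn' s).mp hs, by simp⟩
    · rintro ⟨s, hs, hsy⟩
      have h3 : y = ((n⁻¹ * s * n : N) : G) := by
        have : (s : G) = (n : G) * y * (n : G)⁻¹ := hsy
        simp only [Subgroup.coe_mul, Subgroup.coe_inv]
        rw [this]; group
      rw [h3]
      refine ⟨n⁻¹ * s * n, ?_, rfl⟩
      apply (hn' _).mpr
      have : n * (n⁻¹ * s * n) * n⁻¹ = s := by group
      rw [this]; exact hs
  have h3 := Subgroup.card_dvd_of_le h2
  rw [Subgroup.card_map_of_injective N.subtype_injective] at h3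
  exact h1.trans h3

/-- The Frattini step. -/
theorem frattini24 {G : Type*} [Group G] [Finite G] (N X : Subgroup G) [(X.subgroupOf N).Normal]
    (hcard : Nat.card (N ⧸ X.subgroupOf N) = 24)
    (hR : ∀ R : Sylow 3 (N ⧸ X.subgroupOf N),
      Subgroup.normalizer ((R : Subgroup (N ⧸ X.subgroupOf N)) : Set (N ⧸ X.subgroupOf N)) ≤
        Subgroup.centralizer ((R : Subgroup (N ⧸ X.subgroupOf N)) : Set (N ⧸ X.subgroupOf N)))
    (h16 : ¬ 16 ∣ Nat.card G) :
    ∃ S : Sylow 2 G, 3 ∣ Nat.card (Subgroup.normalizer ((S : Subgroup G) : Set G)) := by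
  classical
  have : Fact (Nat.Prime 3) := ⟨Nat.prime_three⟩
  set X' := X.subgroupOf N
  obtain ⟨R⟩ : Nonempty (Sylow 3 (N ⧸ X')) := inferInstance
  have hcompl := MonoidHom.ker_transferSylow_isComplement' R (hR R)
  set Q : Subgroup (N ⧸ X') := (MonoidHom.transferSylow R (hR R)).ker with hQ
  have hQn : Q.Normal := inferInstance
  have hcR : Nat.card R = 3 := by
    rw [R.card_eq_multiplicity, hcard]
    have h8 : Nat.factorization 8 3 = 0 :=
      Nat.factorization_eq_zero_of_not_dvd (by norm_num)
    have : Nat.factorization 24 3 = 1 := by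
      rw [show (24 : ℕ) = 8 * 3 by norm_num, Nat.factorization_mul (by norm_num) (by norm_num)]
      simp [Nat.Prime.factorization Nat.prime_three, h8]
    rw [this]; norm_num
  have hidx : Q.index = 3 := by rw [hcompl.symm.index_eq_card]; exact hcR
  let K : Subgroup N := Q.comap (QuotientGroup.mk' X')
  have hKi : K.index = 3 := by
    rw [Subgroup.index_comap_of_surjective _ (QuotientGroup.mk'_surjective X'), hidx]
  have hK8 : 8 ∣ Nat.card K := by
    have h1 := K.index_mul_card
    have h2 : Nat.card N = 24 * Nat.card X' := by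
      rw [Subgroup.card_eq_card_quotient_mul_card_subgroup X', hcard]
    rw [hKi, h2] at h1
    have h3 : Nat.card K = 8 * Nat.card X' := by omega
    rw [h3]; exact dvd_mul_right _ _
  exact frattini_three N K hKi hK8 h16

end Cfsg.Agent.H515.Ah
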