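import Cfsg.Agent.H515.KillExc

/-!
# Two killed primes for `F₄(q)`, `E₆(q)`, `E₇(q)`, `E₈(q)`, `²E₆(q)`: the rows (helper515)
-/

set_option autoImplicit false
set_option linter.unusedSectionVars false

namespace Cfsg.Agent.H515.KillExc

open Cfsg Cfsg.Lie Cfsg.Agent.H620 Cfsg.Agent.H620.RowSz Cfsg.Agent.ChevalleyStructure

section split

variable {K : Type} [Field K] [Fintype K] (p : ℕ) [hp : Fact p.Prime] [CharP K p]

theorem kill3_E8 : Kill3 (chevE8.group K) p := by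
  obtain ⟨n, hr, hn⟩ := FiniteField.card K p
  exact kill3_E8' hr n.pos.ne' hn

theorem kill3_E7 : Kill3 (chevE7.group K) p := by
  obtain ⟨n, hr, hn⟩ := FiniteField.card K p
  exact kill3_E7' hr n.pos.ne' hn

theorem kill3_E6 : Kill3 (chevE6.group K) p := by
  obtain ⟨n, hr, hn⟩ := FiniteField.card K p
  exact kill3_E6' hr n.pos.ne' hn

theorem kill3_F4 : Kill3 (chevF4.group K) p := by
  obtain ⟨n, hr, hn⟩ := FiniteField.card K p
  exact kill3_F4' hr n.pos.ne' hn

theorem kill3_2E6 {q : ℕ} (hq : IsPrimePow q) (hK : Fintype.card K = q ^ 2) : Kill3 (twistedE6 K q) p := by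
  obtain ⟨φ, hφ, hqq⟩ := TwE6Basic.exists_frob hq hK
  obtain ⟨s, k, hs, hk, e⟩ := hq
  obtain ⟨n, hr, hn⟩ := FiniteField.card K p
  have hs' : s.Prime := Nat.prime_iff.2 hs
  have h1 : s = p := by
    have h2 : s ∣ p ^ (n : ℕ) := by
      rw [← hn, hK, ← e]
      exact dvd_pow (dvd_pow_self s hk.ne') (by norm_num)
    exact (Nat.prime_dvd_prime_iff_eq hs' hr).1 (hs'.dvd_of_dvd_pow h2)
  subst h1
  exact kill3_TwE6' hr hk.ne' e.symm hφ hqq hK

end split

end Cfsg.Agent.H515.KillExc
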