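import Cfsg.Agent.H515.KillNum
import Cfsg.Agent.H115.HC.GThree
import Cfsg.Agent.H115.HC.TwDFour
import Cfsg.Agent.ChevStructure.FieldMap

/-!
# Two killed primes for `G₂(q)` and for `³D₄(q)`, `q ≥ 3` (helper515)
-/

set_option autoImplicit false
set_option linter.unusedSectionVars false

namespace Cfsg.Agent.H515.KillExc

open Cfsg Cfsg.Lie Cfsg.Agent.H620 Cfsg.Agent.H620.RowSz Cfsg.Agent.H35.PoinNum

/-- **Two killed primes**, weaker conditions on the numbers `e₁`, `e₂`. -/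
theorem kill3_num' {G : Type*} [Group G] [Finite G] {r q d b idx N e₁ e₂ : ℕ} {dS dJ dD : List ℕ} {χ : G → ℂ}
    (hr : r.Prime) (hq : 2 ≤ q) (hrq : r ∣ q) (hχ : IsIrrCharacter G χ) (h1 : χ 1 = N) (hidx : idx ∣ N)
    (hI : idx * pr q dJ = pr q dS) (hcard : d * Nat.card G * pr q dD = r ^ b * pr q dS) (hd : d ∣ q ^ 2 - 1)
    (h12 : e₁ ≠ e₂) (he : 3 ≤ e₁ ∧ 3 ≤ e₂) (h6 : ¬ (q = 2 ∧ e₁ = 6)) (h6' : ¬ (q = 2 ∧ e₂ = 6))
    (hS : (∃ x ∈ dS, e₁ ∣ x) ∧ (∃ x ∈ dS, e₂ ∣ x)) (hJ : ∀ x ∈ dJ, ¬ e₁ ∣ x ∧ ¬ e₂ ∣ x)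
    (hD : ∀ x ∈ dD, ¬ e₁ ∣ x ∧ ¬ e₂ ∣ x) : Kill3 G r := by
  have key : ∀ {l e : ℕ}, l.Prime → (∀ m, l ∣ q ^ m - 1 ↔ e ∣ m) → ¬ l ∣ d → (∃ x ∈ dS, e ∣ x) →
      (∀ x ∈ dD, ¬ e ∣ x) → l ∣ Nat.card G := by
    rintro l e hl hprim hld ⟨x, hx, hex⟩ hD'
    have h2 : l ∣ d * Nat.card G * pr q dD := by
      rw [hcard]
      refine Dvd.dvd.mul_left (Dvd.dvd.trans ((hprim x).2 hex) ?_) _
      unfold pr
      exact List.dvd_prod (List.mem_map.2 ⟨x, hx, rfl⟩)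
    rcases hl.dvd_mul.1 h2 with h3 | h3
    · exact (hl.dvd_mul.1 h3).resolve_left hld
    · exact absurd h3 (not_dvd_pr_of hl hprim dD hD')
  obtain ⟨l, hl, hl1, -, hlq⟩ := Cfsg.Agent.Lib.Zsigmondy.exists_primitive (a := q) (n := e₁) hq (by omega)
    (by omega) (by omega)
  obtain ⟨k, hk, hk1, -, hkq⟩ := Cfsg.Agent.Lib.Zsigmondy.exists_primitive (a := q) (n := e₂) hq (by omega)
    (by omega) (by omega)
  have hlr : l ≠ r := fun h => hlq (h ▸ hrq)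
  have hkr : k ≠ r := fun h => hkq (h ▸ hrq)
  have hld : ¬ l ∣ d := fun h => by
    have h2 := Nat.le_of_dvd (by norm_num) ((hl1 2).1 (h.trans hd))
    omega
  have hkd : ¬ k ∣ d := fun h => by
    have h2 := Nat.le_of_dvd (by norm_num) ((hk1 2).1 (h.trans hd))
    omega
  refine ⟨l, k, hl, hk, ?_, hlr, hkr, key hl hl1 hld hS.1 (fun x hx => (hD x hx).1),
    key hk hk1 hkd hS.2 (fun x hx => (hD x hx).2),
    kill_num hr hχ h1 hidx hI hcard hl hlr hl1 (fun x hx => (hJ x hx).1),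
    kill_num hr hχ h1 hidx hI hcard hk hkr hk1 (fun x hx => (hJ x hx).2)⟩
  rintro rfl
  apply h12
  have h2 := (hk1 e₁).1 ((hl1 e₁).2 dvd_rfl)
  have h3 := (hl1 e₂).1 ((hk1 e₂).2 dvd_rfl)
  exact Nat.dvd_antisymm h3 h2

end Cfsg.Agent.H515.KillExc

namespace Cfsg.Agent.H515.KillExc

section GTwo

open CoxeterSystem Cfsg.Agent.ChevalleyStructure.CoxeterGeom Cfsg.Agent.Tits.Roots Cfsg.Agent.Tits.Core
  Cfsg.Agent.Nodes.Reps Cfsg.Agent.Nodes.BNOf Cfsg.Agent.Nodes.Bruhat Cfsg.Agent.Nodes.LeviDec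
open Cfsg Cfsg.Lie Cfsg.Agent.ChevalleyStructure Cfsg.Agent.ChevalleyStructure.Elts
  Cfsg.Agent.ChevalleyStructure.RootVec Cfsg.Agent.ChevalleyStructure.RootVecTab
  Cfsg.Agent.ChevalleyStructure.NPerm Cfsg.Agent.ChevalleyStructure.CoxeterGeomTypes
open Cfsg.Agent.Nodes.RGDChev Cfsg.Agent.H35.ExcIdx Cfsg.Agent.H35.PoinNum
open Cfsg.Agent.H115.HC Cfsg.Agent.H115.HC.GTwo Cfsg.Agent.H620 Cfsg.Agent.H620.RowSz

universe u

theorem exists_chi_G2_four {K : Type u} [Field K] [Fintype K] (h4 : 4 ≤ Fintype.card K) :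
    ∃ χ : IrrCharacter ↥(chevG2.group K),
      (Fintype.card K + 1) * (Fintype.card K ^ 4 + Fintype.card K ^ 2 + 1) ∣
        charDegree (χ : ↥(chevG2.group K) → ℂ) := by
  classical
  obtain ⟨p, hch⟩ := CharP.exists K
  obtain ⟨⟨f, hf⟩, hpp, hcard⟩ := FiniteField.card K p
  have : Fact p.Prime := ⟨hpp⟩
  have hfin := finite_W hpG2 CoxeterMatrix.G₂.toCoxeterSystem
  have R := rgd (K := K) hpG2 CoxeterMatrix.G₂.toCoxeterSystem p
  obtain ⟨c, hc0, hc2⟩ := Cfsg.Agent.ETable.Exc.exists_sq_ne_one K (by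
    rw [Nat.card_eq_fintype_card]
    omega)
  obtain ⟨hx9, hx2, hx7⟩ := vecs
  obtain ⟨k1, k2⟩ := GTwo.cart
  obtain ⟨d1, d2, d3, d4⟩ := cart2
  obtain ⟨g1, g2, g3, g4, g5, g6, g7⟩ := cart3
  obtain ⟨χ, h1, h2⟩ := exists_chi_G2 R (GG_eq_top hpG2 K _) TT_comm (by rw [k1, k2]; norm_num)
    (by
      rw [card_XX hpG2 K CoxeterMatrix.G₂.toCoxeterSystem (isRoot_sr _ hpG2.isCartan 0), Nat.card_eq_fintype_card]
      omega) (a := hh K 1 c) (hh_mem 1 hc0)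
    (by
      rw [hh_mul 1 hc0 hc0]
      refine hh_ne_one g2 (mul_ne_zero hc0 hc0) ?_
      change (c * c) ^ (chevG2.cartan 1 8) ≠ 1
      rw [g1, zpow_one, ← sq]
      exact hc2)
    (Subtype.ext (nn_inv_hG hpG2 K 1 hc0))
    (by
      rw [k2, _root_.neg_neg]
      intro u hu
      obtain ⟨t, rfl⟩ := (mem_XX g3 hx9).1 hu
      rw [hh_xG 1 g3 hc0]
      change (⟨xG _ 9 (c ^ (chevG2.cartan 1 9) * t), _⟩ : ↥(chevG2.group K)) * _ = _
      simp only [d1, zpow_zero, one_mul])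
    (by
      rw [k2, _root_.neg_neg]
      intro u hu
      obtain ⟨t, rfl⟩ := (mem_XX g4 hx2).1 hu
      rw [hh_xG 1 g4 hc0]
      change (⟨xG _ 2 (c ^ (chevG2.cartan 1 2) * t), _⟩ : ↥(chevG2.group K)) * _ = _
      simp only [d2, zpow_zero, one_mul])
  refine ⟨χ, ?_⟩
  rw [← index_eq']
  exact h1

theorem kill3_G2_four {K : Type u} [Field K] [Fintype K] {p : ℕ} [hp : Fact p.Prime] [CharP K p]
    (h4 : 4 ≤ Fintype.card K) : Kill3 (chevG2.group K) p := by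
  obtain ⟨n, hr, hn⟩ := FiniteField.card K p
  have : Finite ↥(chevG2.group K) := by
    classical
    have : Finite (GL chevG2.Idx K) := by
      have : Finite (Matrix chevG2.Idx chevG2.Idx K) := inferInstance
      infer_instance
    infer_instance
  obtain ⟨χ, hχ⟩ := exists_chi_G2_four h4
  have h3 := Cfsg.Agent.S1059.result (F := K) rfl
  refine kill3_num' (q := Fintype.card K) (d := 1) (b := n * 6) (e₁ := 6) (e₂ := 3) (dS := [2, 6])
    (dJ := [1, 2]) (dD := []) hr (by omega) (by rw [hn]; exact dvd_pow_self p n.pos.ne') χ.2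
    (Cfsg.Agent.Blocks.Basic.irr_one_eq_charDegree χ.2) hχ ?_ ?_ (one_dvd _) (by norm_num) (by norm_num)
    (by omega) (by omega) (by decide) (by decide) (by decide)
  · simp only [pr_cons, pr_nil]
    obtain ⟨m, hm⟩ := Nat.exists_eq_add_of_le (show 1 ≤ Fintype.card K by omega)
    rw [hm]
    have e1 : (1 + m) ^ 1 - 1 = m := by rw [pow_one]; omega
    have e2 : (1 + m) ^ 2 - 1 = m * (m + 2) := Nat.sub_eq_of_eq_add (by ring)
    have e6 : (1 + m) ^ 6 - 1 = m * (1 + m + 1) * ((1 + m) ^ 4 + (1 + m) ^ 2 + 1) := Nat.sub_eq_of_eq_add (by ring)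
    rw [e1, e2, e6]
    ring
  · rw [pow_mul, ← hn]
    simp only [pr_cons, pr_nil]
    rw [one_mul, h3]
    ring

theorem kill3_G2_three : Kill3 (chevG2.group (ZMod 3)) 3 := by
  have : Finite ↥(chevG2.group (ZMod 3)) := by
    classical
    have : Finite (GL chevG2.Idx (ZMod 3)) := by
      have : Finite (Matrix chevG2.Idx chevG2.Idx (ZMod 3)) := inferInstance
      infer_instance
    infer_instance
  have h3 := Cfsg.Agent.S1059.result (F := ZMod 3) (ZMod.card 3)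
  have hc : Nat.card ↥(chevG2.group (ZMod 3)) = 4245696 := by rw [h3]; norm_num
  obtain ⟨χ, hχ⟩ := Cfsg.Agent.H115.HC.GThree.big_three
  have key : ∀ l : ℕ, l.Prime → l ∣ 4245696 → ¬ l ∣ 3 → ¬ l ^ 2 ∣ 4245696 → Kill (chevG2.group (ZMod 3)) l := by
    intro l hl h1 h2 h4
    have : Fact l.Prime := ⟨hl⟩
    refine kill_of_dvd l χ.2 _ (Cfsg.Agent.Blocks.Basic.irr_one_eq_charDegree χ.2) ?_
    rw [hc]
    have h5 : (4245696 : ℕ).factorization l ≤ 1 := by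
      by_contra h6
      exact h4 ((hl.pow_dvd_iff_le_factorization (by norm_num)).2 (by omega))
    refine (pow_dvd_pow l h5).trans ?_
    rw [pow_one]
    exact hχ l hl (by rw [hc]; exact h1) h2
  refine ⟨7, 13, by norm_num, by norm_num, by norm_num, by norm_num, by norm_num, by rw [hc]; norm_num,
    by rw [hc]; norm_num, key 7 (by norm_num) (by norm_num) (by norm_num) (by norm_num),
    key 13 (by norm_num) (by norm_num) (by norm_num) (by norm_num)⟩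

/-- **`G₂(q)`, `q ≥ 3`.** -/
theorem kill3_G2 {K : Type u} [Field K] [Fintype K] (p : ℕ) [hp : Fact p.Prime] [CharP K p]
    (h3 : 3 ≤ Fintype.card K) : Kill3 (chevG2.group K) p := by
  rcases Nat.eq_or_lt_of_le h3 with h4 | h4
  · have hp3 : p = 3 := by
      obtain ⟨n, hr, hn⟩ := FiniteField.card K p
      have h6 : p ∣ 3 := by
        rw [h4, hn]
        exact dvd_pow_self p n.pos.ne'
      exact (Nat.prime_dvd_prime_iff_eq hr Nat.prime_three).1 h6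
    subst hp3
    have e : K ≃+* ZMod 3 := (ZMod.ringEquivOfPrime K Nat.prime_three h4.symm).symm
    exact kill3_G2_three.mulEquiv (Cfsg.Agent.ChevStructure.FieldMap.groupEquivOfRingEquiv chevG2 e).symm
  · exact kill3_G2_four h4

end GTwo

end Cfsg.Agent.H515.KillExc
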