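import Cfsg.Agent.H515.KillTwD
import Cfsg.Agent.H695.Row49

/-!
# `³D₄(2)`: three `VZ` elements of coprime orders (helper515)
-/

set_option autoImplicit false

namespace Cfsg.Agent.H515.KillExc

open Cfsg Cfsg.Lie Cfsg.Agent.H620 Cfsg.Agent.H713 Cfsg.Agent.H695

theorem tri_3D4_two {K : Type} [Field K] [Fintype K] (hK : Fintype.card K = 2 ^ 3)
    (h2 : Kill (twistedD4 K 2) 2) : Tri (twistedD4 K 2) := by
  have := finite_twD4 (K := K) 2
  have hcard := Cfsg.Agent.S1067.result Nat.prime_two.isPrimePow hK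
  have hcard' : Nat.card ↥(twistedD4 K 2) = 211341312 := by rw [hcard]; norm_num
  obtain ⟨⟨x, y, hx, hy⟩, χ, hχ⟩ := vz_3D4_two hK
  have : Fact (Nat.Prime 2) := ⟨Nat.prime_two⟩
  obtain ⟨z, hz⟩ := exists_prime_orderOf_dvd_card' (G := ↥(twistedD4 K 2)) 2 (by rw [hcard']; norm_num)
  refine ⟨z, x, y, h2.vz (x := z) (by rw [hz]), ⟨χ, fun α => hχ _ (Or.inl ?_)⟩, ⟨χ, fun α => hχ _ (Or.inr ?_)⟩,
    by rw [hz, hx]; norm_num, by rw [hz, hy]; norm_num, by rw [hx, hy]; norm_num⟩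
  · rw [α.orderOf_eq, hx]
  · rw [α.orderOf_eq, hy]

end Cfsg.Agent.H515.KillExc
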