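import Cfsg.Agent.H515.LyCent
import Cfsg.Agent.H620.RowLy
import Cfsg.Agent.H695.Spor.InvolFus
import Cfsg.Agent.H704.Spor49.ONan
import Cfsg.Agent.S2076

/-!
# The row of the Lyons group for S4849 (helper515)

* `card_cent_31`: the centralizers of the elements of order 31 have order 31;
* `hasDZ_31`, `tri_ly`, `row49_ly`.
-/

set_option autoImplicit false
set_option maxRecDepth 100000

namespace Cfsg.Agent.H515.LyRow

open Cfsg Subgroup Cfsg.Agent.H515.LyCent Cfsg.Agent.Ly.Setup Cfsg.Agent.Ly.Cover Cfsg.Agent.Ly.CoverCore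
open Cfsg.Agent.H620 Cfsg.Agent.H695 Cfsg.Agent.H713 Cfsg.Agent.H665.NoPQ

instance fact_31 : Fact (Nat.Prime 31) := ⟨by norm_num⟩

/-- the element of order 31 of the matrix group -/
def u : Hhat := ⟨g0, g0_mem⟩

/-- the element of order 31 -/
noncomputable def x : Spor.Ly := psi u

theorem orderOf_u : orderOf u = 31 := by
  refine orderOf_eq_prime (Subtype.ext (by rw [Subgroup.coe_pow, Subgroup.coe_one]; exact g0_pow)) ?_
  intro h
  have h1 : (u : GL75) = ((1 : Hhat) : GL75) := by rw [h]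
  exact g0_ne h1

theorem orderOf_x : orderOf x = 31 := by
  rw [x, orderOf_injective psi psi_injective, orderOf_u]

theorem nn_ne (i : Fin 5) (hi : i ≠ 0) : ¬ 31 ∣ Cfsg.Agent.Ly.Cent.nn i := by
  fin_cases i
  · exact absurd rfl hi
  all_goals decide

theorem mem_range_of_conj {g : Spor.Ly} (h : g⁻¹ * x * g ∈ psi.range) : g ∈ psi.range := by
  obtain ⟨i, h1, hh1, h2, hh2, hg⟩ := cover g
  by_cases hi : i = 0
  · subst hi
    rw [hg, w_zero, mul_one]
    exact mul_mem hh1 hh2
  · exfalso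
    have hx : x ∈ psi.range := ⟨u, rfl⟩
    have h3 : h1⁻¹ * x * h1 ∈ (Hs i).map psi := by
      rw [map_eq]
      refine ⟨psi.range.mul_mem (psi.range.mul_mem (psi.range.inv_mem hh1) hx) hh1, ?_⟩
      refine ⟨(w i)⁻¹ * (h1⁻¹ * x * h1) * w i, ?_, ?_⟩
      · have h4 : (w i)⁻¹ * (h1⁻¹ * x * h1) * w i = h2 * (g⁻¹ * x * g) * h2⁻¹ := by rw [hg]; group
        rw [h4]
        show h2 * (g⁻¹ * x * g) * h2⁻¹ ∈ psi.range
        exact mul_mem (mul_mem hh2 h) (inv_mem hh2)
      · show w i * ((w i)⁻¹ * (h1⁻¹ * x * h1) * w i) * (w i)⁻¹ = h1⁻¹ * x * h1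
        group
    have h4 : orderOf (h1⁻¹ * x * h1) = 31 := by
      have := (MulAut.conj h1⁻¹).orderOf_eq x
      rw [orderOf_x, MulAut.conj_apply, inv_inv] at this
      exact this
    have h5 : 31 ∣ Nat.card ((Hs i).map psi) := by
      rw [← h4, ← Subgroup.orderOf_mk _ h3]
      exact orderOf_dvd_natCard _
    rw [(exact' i).2] at h5
    exact nn_ne i hi h5

theorem pow_124_of_mem {g : Spor.Ly} (hg : g * x = x * g) : g ^ 124 = 1 := by
  have h1 : g⁻¹ * x * g ∈ psi.range := by
    have : g⁻¹ * x * g = x := by rw [mul_assoc, ← hg, inv_mul_cancel_left]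
    rw [this]
    exact ⟨u, rfl⟩
  obtain ⟨v, rfl⟩ := mem_range_of_conj h1
  have h2 : v * u = u * v := psi_injective (by rw [map_mul, map_mul]; exact hg)
  have h2' : (v : GL75) * g0 = g0 * v := by
    have h5 : ((v * u : Hhat) : GL75) = ((u * v : Hhat) : GL75) := by rw [h2]
    rw [Subgroup.coe_mul, Subgroup.coe_mul] at h5
    exact h5
  have h3 : (v : GL75) ^ 124 = 1 := LyCent.pow_124 h2'
  have h4 : v ^ 124 = 1 := Subtype.ext (by rw [Subgroup.coe_pow, Subgroup.coe_one]; exact h3)
  rw [← map_pow, h4, map_one]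

theorem no_invol {t g : Spor.Ly} (ht : orderOf t = 2) (hg : orderOf g = 31) : ¬ g * t = t * g := by
  intro h
  have h1 : g ∈ centralizer ({t} : Set Spor.Ly) := mem_centralizer_singleton_iff.2 h
  have h2 := orderOf_dvd_natCard (⟨g, h1⟩ : centralizer ({t} : Set Spor.Ly))
  rw [Subgroup.orderOf_mk, hg, RowLy.card_cent ht] at h2
  revert h2
  norm_num

theorem pow_31_of_mem {g : Spor.Ly} (hg : g * x = x * g) : g ^ 31 = 1 := by
  have h1 := pow_124_of_mem hg
  have hc : Commute x (g ^ 31) := (show Commute x g from hg.symm).pow_right 31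
  have h2 : (g ^ 31) ^ 2 = 1 := by
    by_contra h3
    have h4 : orderOf ((g ^ 31) ^ 2) = 2 := by
      refine orderOf_eq_prime ?_ h3
      rw [← pow_mul, ← pow_mul]
      exact h1
    exact no_invol h4 orderOf_x (hc.pow_right 2)
  by_contra h3
  exact no_invol (orderOf_eq_prime h2 h3) orderOf_x hc

theorem card_cent_x : Nat.card (centralizer ({x} : Set Spor.Ly)) = 31 := by
  have h1 : IsPGroup 31 (centralizer ({x} : Set Spor.Ly)) := by
    rintro ⟨g, hg⟩
    exact ⟨1, Subtype.ext (by
      rw [pow_one]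
      exact pow_31_of_mem (mem_centralizer_singleton_iff.1 hg))⟩
  obtain ⟨n, hn⟩ := IsPGroup.iff_card.1 h1
  have h2 : 31 ^ n ∣ 51765179004000000 := by
    rw [← hn, ← RowLy.card_ly]
    exact Subgroup.card_subgroup_dvd_card _
  have h3 : n < 2 := by
    by_contra hcon
    have h4 : 31 ^ 2 ∣ 51765179004000000 := (pow_dvd_pow 31 (by omega)).trans h2
    revert h4
    norm_num
  have h4 : 31 ∣ Nat.card (centralizer ({x} : Set Spor.Ly)) := by
    have hx : x ∈ centralizer ({x} : Set Spor.Ly) := mem_centralizer_singleton_iff.2 rfl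
    rw [← orderOf_x, ← Subgroup.orderOf_mk _ hx]
    exact orderOf_dvd_natCard _
  rw [hn] at h4 ⊢
  interval_cases n
  · revert h4; norm_num
  · norm_num

theorem fac31 : (Nat.card Spor.Ly).factorization 31 = 1 := by
  rw [RowLy.card_ly]; exact factorization_eq_one (by norm_num) (by norm_num)

theorem fac67 : (Nat.card Spor.Ly).factorization 67 = 1 := by
  rw [RowLy.card_ly]; exact factorization_eq_one (by norm_num) (by norm_num)

/-- **The centralizers of the elements of order 31.** -/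
theorem card_cent_31 {y : Spor.Ly} (hy : orderOf y = 31) : Nat.card (centralizer ({y} : Set Spor.Ly)) = 31 := by
  obtain ⟨c, i, hc, hi⟩ := Third.exists_conj_pow fac31 orderOf_x hy
  have hco : Nat.Coprime i 31 := Nat.Coprime.symm ((Nat.Prime.coprime_iff_not_dvd (by norm_num)).2 hi)
  obtain ⟨j, hj⟩ : ∃ j, (x ^ i) ^ j = x := exists_pow_eq_self_of_coprime (by rwa [orderOf_x])
  have h1 : centralizer ({x ^ i} : Set Spor.Ly) = centralizer ({x} : Set Spor.Ly) := by
    ext g
    rw [mem_centralizer_singleton_iff, mem_centralizer_singleton_iff]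
    constructor
    · intro h
      rw [← hj]
      exact (show Commute g (x ^ i) from h).pow_right j
    · intro h
      exact (show Commute g x from h).pow_right i
  rw [← Cfsg.Agent.Blocks.SylowIn.card_centralizer_of_isConj (isConj_iff.2 ⟨c, hc⟩), h1, card_cent_x]

theorem arith31 (e a : ℕ) (he : e ∣ 31 - 1) (h1 : (e * (a * 1)) % 31 = 51765179004000000 / 31 % 31)
    (h2 : (a * 39916800) % 31 = 51765179004000000 / 31 % 31) : False := by
  norm_num at h1 h2 he
  have he' : e ≤ 30 := Nat.le_of_dvd (by norm_num) he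
  rw [Nat.mul_mod] at h1 h2
  have h3 : a % 31 < 31 := Nat.mod_lt _ (by norm_num)
  generalize a % 31 = r at h1 h2 h3
  interval_cases r <;> norm_num at h2
  interval_cases e <;> revert he h1 <;> norm_num

theorem hasDZ_31 : HasDZ 31 Spor.Ly := by
  refine Spor.InvolFus.hasDZ_of_card_fus (by norm_num) fac31 (by rw [RowLy.card_ly]; norm_num) (m := 39916800)
    (fun u hu => RowLy.card_cent hu) (by norm_num) ?_
  intro e a b y t _ hy ht hb he _ hbm _ _ _ h1 h2
  have hb1 : b ∣ 31 := by
    rw [← hb, ← card_cent_31 hy]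
    exact Subgroup.card_dvd_of_le inf_le_left
  have hb2 : b = 1 := by
    rcases (Nat.dvd_prime (by norm_num)).1 hb1 with h | h
    · exact h
    · exfalso
      rw [h] at hbm
      revert hbm
      norm_num
  subst hb2
  rw [RowLy.card_ly] at h1 h2
  exact arith31 e a he h1 h2

theorem iso31 (y : Spor.Ly) (hy : 31 ∣ orderOf y) : orderOf y = 31 := by
  obtain ⟨k, hk⟩ := hy
  have hk0 : k ≠ 0 := by
    rintro rfl
    rw [mul_zero] at hk
    exact (orderOf_pos y).ne' hk
  have h1 : orderOf (y ^ k) = 31 := by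
    rw [orderOf_pow, hk, Nat.gcd_eq_right (Dvd.intro_left 31 rfl), Nat.mul_div_cancel _ (Nat.pos_of_ne_zero hk0)]
  have h2 : y ∈ centralizer ({y ^ k} : Set Spor.Ly) :=
    mem_centralizer_singleton_iff.2 (by rw [← pow_succ, ← pow_succ'])
  have h3 := orderOf_dvd_natCard (⟨y, h2⟩ : centralizer ({y ^ k} : Set Spor.Ly))
  rw [Subgroup.orderOf_mk, card_cent_31 h1] at h3
  exact Nat.dvd_antisymm h3 ⟨k, hk⟩

open Cfsg.Agent.H695.Spor.Tool in
/-- **Three zeros of coprime orders in the Lyons group.** -/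
theorem tri_ly {K : Type*} [Group K] (h : Spor.IsoLy K) : Tri K := by
  obtain ⟨e⟩ := h
  refine Tri.mulEquiv ?_ e.symm
  have hc := RowLy.card_ly
  exact Third.tri (p := 31) (q := 67)
    (Cfsg.Agent.H704.Spor49.nonabelian_of_primes (p := 31) (q := 67) (by norm_num) (by norm_num) (by norm_num)
      (by rw [hc]; norm_num) (by rw [hc]; norm_num)) (by norm_num) fac31 fac67 iso31
    (index_of_out (by rw [Cfsg.Agent.S2076.result]; norm_num)) hasDZ_31 RowLy.hasDZ_67

theorem row49_ly {K : Type*} [Group K] (h : Spor.IsoLy K) : Row49 K := by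
  have : Finite K := by
    obtain ⟨e⟩ := h
    exact Finite.of_equiv _ e.symm.toEquiv
  exact (tri_ly h).row49

end Cfsg.Agent.H515.LyRow
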