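import Cfsg.Agent.H759.Pair.Tits
import Cfsg.Agent.H695.Spor.Tool

/-!
# The row of the Tits group for S4849 (helper515)
-/

set_option autoImplicit false

namespace Cfsg.Agent.H515.TitsRow

open Cfsg Cfsg.Agent.H695 Cfsg.Agent.H695.Spor.Tool Cfsg.Agent.H665.NoPQ

/-- **Three zeros of coprime orders in the Tits group.** -/
theorem tri_tits {K : Type*} [Group K] (h : Lie.IsoTits K) : Tri K := by
  have hfin : Finite K := Cfsg.Agent.H690.Spor.Tits.finite h
  have F2 : Fact (Nat.Prime 2) := ⟨Nat.prime_two⟩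
  have F3 : Fact (Nat.Prime 3) := ⟨Nat.prime_three⟩
  have F13 : Fact (Nat.Prime 13) := ⟨by norm_num⟩
  have hc : Nat.card K = 2 ^ 11 * 3 ^ 3 * 5 ^ 2 * 13 := (CpAutTits.Row.out h).card
  exact tri_of_dz 2 3 13 (Cfsg.Agent.H759.Pair.Tits.dz_two h)
    (Cfsg.Agent.H690.Spor.Tits.hasDZ h (by norm_num) (by norm_num) (by norm_num))
    (Cfsg.Agent.H690.Spor.Tits.hasDZ h (by norm_num) (by norm_num) (by norm_num))
    (by rw [hc]; norm_num) (by rw [hc]; norm_num) (by rw [hc]; norm_num) (by norm_num) (by norm_num) (by norm_num)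

theorem row49_tits {K : Type*} [Group K] (h : Lie.IsoTits K) : Row49 K := by
  have hfin : Finite K := Cfsg.Agent.H690.Spor.Tits.finite h
  exact (tri_tits h).row49

end Cfsg.Agent.H515.TitsRow
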